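import Cfsg.Agent.Lib.SuzukiSol.Scalars

/-!
# Minimal invariant parts of an equivariant family of additive endomorphisms of GF(2 ^ n)

As `Suzuki2.Semilinear`, but the multipliers only form a group with the properties `Scalars`.
-/

namespace Cfsg.Agent.Lib.SuzukiSol

open Cfsg.Agent.Lib.RankOne.AutSpan
open Cfsg.Agent.Lib

variable {F : Type*} [Field F] [Fintype F] [CharP F 2]

/-- An equivariant family of additive maps, on a minimal invariant subgroup. -/
structure Family (G K F : Type*) [Group G] [Field F] where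
  /-- the multipliers -/
  M : Subgroup Fˣ
  scal : Scalars M
  /-- the action -/
  act : K → G → G
  /-- the multiplier -/
  lam : K → F
  /-- the family -/
  b : G → (F →+ F)
  /-- the subgroup -/
  V : Subgroup G
  b_mul : ∀ g h, b (g * h) = b g + b h
  lam_ne : ∀ k, lam k ≠ 0
  lam_surj : ∀ m ∈ M, ∃ k, lam k = (m : F)
  equiv : ∀ k g z, b (act k g) (lam k * z) = lam k * b g z
  V_inv : ∀ k, ∀ g ∈ V, act k g ∈ V
  V_min : ∀ W : Subgroup G, W ≤ V → (∀ k, ∀ g ∈ W, act k g ∈ W) → (∀ g ∈ V, b g = 0 → g ∈ W) →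
    (∀ g ∈ W, b g = 0) ∨ W = V
  free : ∀ k, ∀ g ∈ V, b g ≠ 0 → b (act k g) = b g → lam k = 1
  ne_zero : ∃ g ∈ V, b g ≠ 0
  three : ∃ t : F, t ≠ 0 ∧ t ≠ 1

variable {G K : Type*} [Group G] (S : Family G K F)

theorem Family.semilinear : ∃ (σ : F ≃+* F) (c : G → F),
    (∀ g ∈ S.V, ∀ z, S.b g z = c g * σ z) ∧ (∀ g ∈ S.V, c g = 0 → S.b g = 0) ∧
    (∀ t : F, t ≠ 0 → ∃ g ∈ S.V, c g = t) ∧ ∀ s t : F, s ≠ 0 → t ≠ 0 → s * σ t = t * σ s → s = t := by
  classical
  haveI : Finite (F ≃+* F) := Finite.of_injective (fun σ => (σ : F → F)) DFunLike.coe_injective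
  haveI := Fintype.ofFinite (F ≃+* F)
  letI : Algebra (ZMod 2) F := ZMod.algebra F 2
  haveI : Fact (Nat.Prime 2) := ⟨Nat.prime_two⟩
  choose co hco using fun g => exists_coeffs 2 ((S.b g).toZModLinearMap 2)
  simp only [AddMonoidHom.coe_toZModLinearMap] at hco
  have uniq : ∀ u v : (F ≃+* F) → F, (∀ x, ∑ σ, u σ * σ x = ∑ σ, v σ * σ x) → u = v := by
    intro u v h
    funext σ
    have := Fintype.linearIndependent_iff.1 (linearIndependent_aut (F := F)) (u - v) (by
      funext x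
      simp [Finset.sum_apply, sub_mul, Finset.sum_sub_distrib, h x]) σ
    exact sub_eq_zero.1 this
  have cmul : ∀ g h σ, co (g * h) σ = co g σ + co h σ := fun g h σ => congrFun (uniq (co (g * h))
    (fun σ => co g σ + co h σ) fun x => by
      rw [← hco, S.b_mul, AddMonoidHom.add_apply, hco, hco]
      simp [add_mul, Finset.sum_add_distrib]) σ
  have cact : ∀ k g σ, co (S.act k g) σ * σ (S.lam k) = S.lam k * co g σ := fun k g σ =>
    congrFun (uniq (fun σ => co (S.act k g) σ * σ (S.lam k)) (fun σ => S.lam k * co g σ) fun x => by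
      have := S.equiv k g x
      rw [hco, hco, Finset.mul_sum] at this
      simpa [mul_assoc] using this) σ
  have cb : ∀ g, (∀ σ, co g σ = 0) → S.b g = 0 := fun g h => AddMonoidHom.ext fun x => by simp [hco, h]
  have cb' : ∀ g, S.b g = 0 → ∀ σ, co g σ = 0 := fun g h σ => congrFun (uniq (co g) 0 fun x => by
    rw [← hco, h]; simp) σ
  let W : (F ≃+* F) → Subgroup G := fun σ =>
    { carrier := {g | g ∈ S.V ∧ co g σ = 0}
      one_mem' := ⟨S.V.one_mem, by simpa using (cmul 1 1 σ)⟩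
      mul_mem' := fun {g h} hg hh => ⟨S.V.mul_mem hg.1 hh.1, by rw [cmul, hg.2, hh.2, add_zero]⟩
      inv_mem' := fun {g} hg => ⟨S.V.inv_mem hg.1, by
        have := cmul g g⁻¹ σ
        rw [mul_inv_cancel, hg.2, zero_add] at this
        rw [← this]
        simpa using (cmul 1 1 σ)⟩ }
  have dich : ∀ σ, (∀ g ∈ S.V, co g σ = 0) ∨ (∀ g ∈ S.V, co g σ = 0 → S.b g = 0) := by
    intro σ
    rcases S.V_min (W σ) (fun g hg => hg.1) (fun k g hg => ⟨S.V_inv k g hg.1, by
        have := cact k g σ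
        rw [hg.2, mul_zero] at this
        exact (mul_eq_zero.1 this).resolve_right (by simp [S.lam_ne k])⟩)
      (fun g hg hb => ⟨hg, cb' g hb σ⟩) with h | h
    · exact Or.inr fun g hg hc => h g ⟨hg, hc⟩
    · exact Or.inl fun g hg => (h.symm ▸ hg : g ∈ W σ).2
  obtain ⟨g₀, hg₀, hb₀⟩ := S.ne_zero
  obtain ⟨σ, hσ₀⟩ : ∃ σ, co g₀ σ ≠ 0 := by
    by_contra h
    push Not at h
    exact hb₀ (cb g₀ h)
  have hker : ∀ ρ, co g₀ ρ ≠ 0 → ∀ g ∈ S.V, co g ρ = 0 → S.b g = 0 := fun ρ hρ =>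
    (dich ρ).resolve_left fun h => hρ (h g₀ hg₀)
  have chi_inj : ∀ ρ, co g₀ ρ ≠ 0 → ∀ t : F, t ≠ 0 → ρ t = t → t = 1 := by
    intro ρ hρ
    refine S.scal.nofix ρ fun m hm hfix => ?_
    obtain ⟨k, hk⟩ := S.lam_surj m hm
    have h1 := cact k g₀ ρ
    rw [hk, hfix, mul_comm] at h1
    have h2 : co (S.act k g₀) ρ = co g₀ ρ := mul_left_cancel₀ m.ne_zero h1
    refine Units.ext (hk ▸ S.free k g₀ hg₀ hb₀ ?_)
    have h3 : co (g₀⁻¹ * S.act k g₀) ρ = 0 := by
      have := cmul g₀ (g₀⁻¹ * S.act k g₀) ρ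
      rw [mul_inv_cancel_left, h2] at this
      simpa using this
    have h4 := hker ρ hρ _ (S.V.mul_mem (S.V.inv_mem hg₀) (S.V_inv k _ hg₀)) h3
    have h5 := S.b_mul g₀ (g₀⁻¹ * S.act k g₀)
    rwa [mul_inv_cancel_left, h4, add_zero] at h5
  have chi_eq : ∀ ρ, co g₀ ρ ≠ 0 → ∀ s t : F, s ≠ 0 → t ≠ 0 → s * ρ t = t * ρ s → s = t := by
    intro ρ hρ s t hs ht h
    have : ρ (t / s) = t / s := by
      rw [map_div₀, div_eq_div_iff (by simpa using hs) hs]
      linear_combination h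
    exact ((div_eq_one_iff_eq hs).1 (chi_inj ρ hρ _ (div_ne_zero ht hs) this)).symm
  have autM : ∀ (ρ : F ≃+* F), ∀ m ∈ S.M, ∃ m' ∈ S.M, (m' : F) = ρ m := by
    intro ρ m hm
    obtain ⟨i, hi⟩ := Suzuki2.ClassTwo.exists_frobenius (ρ : F →+* F)
    exact ⟨m ^ 2 ^ i, S.M.pow_mem hm _, by rw [Units.val_pow_eq_pow_val]; exact (hi m).symm⟩
  have chi_surj : ∀ ρ, co g₀ ρ ≠ 0 → ∀ x ∈ S.M, ∃ t ∈ S.M, (t : F) / ρ t = x := by
    intro ρ hρ x hx
    choose q hq hqe using autM ρ
    let f : S.M → S.M := fun t => ⟨t / q t t.2, S.M.div_mem t.2 (hq _ _)⟩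
    have hf : Function.Injective f := fun s t h => by
      have h' := congrArg (fun m : S.M => ((m : Fˣ) : F)) h
      simp only [f, Units.val_div_eq_div_val, hqe] at h'
      rw [div_eq_div_iff (by simp) (by simp)] at h'
      exact Subtype.ext (Units.ext (chi_eq ρ hρ _ _ (Units.ne_zero _) (Units.ne_zero _) h'))
    obtain ⟨t, ht⟩ := Finite.surjective_of_injective hf ⟨x, hx⟩
    refine ⟨t, t.2, ?_⟩
    have := congrArg (fun m : S.M => ((m : Fˣ) : F)) ht
    simpa only [f, Units.val_div_eq_div_val, hqe] using this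
  have co_one : ∀ ρ, co 1 ρ = 0 := fun ρ => by simpa using (cmul 1 1 ρ)
  have csurj : ∀ ρ, co g₀ ρ ≠ 0 → ∀ x : F, ∃ g ∈ S.V, co g ρ = x := by
    intro ρ hρ x
    let W₁ : AddSubgroup F :=
      { carrier := {x | ∃ g ∈ S.V, co g ρ = x * co g₀ ρ}
        zero_mem' := ⟨1, S.V.one_mem, by rw [zero_mul, co_one]⟩
        add_mem' := fun {a b} ⟨g, hg, ea⟩ ⟨h, hh, eb⟩ =>
          ⟨g * h, S.V.mul_mem hg hh, by rw [cmul, ea, eb, add_mul]⟩
        neg_mem' := fun {a} ⟨g, hg, ea⟩ => ⟨g, hg, by rw [CharTwo.neg_eq]; exact ea⟩ }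
    have hW : W₁ = ⊤ := S.scal.span W₁ fun m hm => by
      obtain ⟨t, ht, htm⟩ := chi_surj ρ hρ m hm
      obtain ⟨k, hk⟩ := S.lam_surj t ht
      refine ⟨S.act k g₀, S.V_inv k _ hg₀, mul_right_cancel₀ (b := ρ (S.lam k)) (by simp [hk]) ?_⟩
      rw [cact, hk, ← htm, div_mul_eq_mul_div, div_mul_cancel₀ _ (by simp)]
    obtain ⟨g, hg, e⟩ := (hW.symm ▸ trivial : x / co g₀ ρ ∈ W₁)
    exact ⟨g, hg, by rwa [div_mul_cancel₀ _ hρ] at e⟩
  have only : ∀ τ, τ ≠ σ → ∀ g ∈ S.V, co g τ = 0 := by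
    intro τ hne
    by_contra hcon
    push Not at hcon
    obtain ⟨g₁, hg₁, hτ₁⟩ := hcon
    have hτ₀ : co g₀ τ ≠ 0 := fun h => hτ₁ (cb' g₁ (by
      exfalso
      exact hb₀ ((dich τ).resolve_left (fun h' => hτ₁ (h' g₁ hg₁)) g₀ hg₀ h)) τ)
    choose r hr hrc using csurj σ hσ₀
    let φ : F → F := fun x => co (r x) τ
    have hφ : ∀ g ∈ S.V, φ (co g σ) = co g τ := by
      intro g hg
      have h0 : co (g⁻¹ * r (co g σ)) σ = 0 := by
        have := cmul g (g⁻¹ * r (co g σ)) σ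
        rw [mul_inv_cancel_left, hrc] at this
        simpa using this
      have := cmul g (g⁻¹ * r (co g σ)) τ
      rw [mul_inv_cancel_left, cb' _ (hker σ hσ₀ _ (S.V.mul_mem (S.V.inv_mem hg) (hr _)) h0) τ,
        add_zero] at this
      exact this
    have φadd : ∀ x y, φ (x + y) = φ x + φ y := fun x y => by
      have := hφ (r x * r y) (S.V.mul_mem (hr _) (hr _))
      rwa [cmul, hrc, hrc, cmul] at this
    have φeq : ∀ t ∈ S.M, ∀ x : F, φ ((t : F) / σ t * x) * τ (t : F) = t * φ x := by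
      intro t ht x
      obtain ⟨k, hk⟩ := S.lam_surj t ht
      have h1 : co (S.act k (r x)) σ = S.lam k / σ (S.lam k) * x := by
        rw [div_mul_eq_mul_div, eq_div_iff (by simp [hk]), cact, hrc]
      rw [← hk, ← h1, hφ _ (S.V_inv k _ (hr x)), cact]
    have φ0 : φ 0 = 0 := by
      have := φadd 0 0
      rw [add_zero] at this
      exact left_eq_add.1 this
    set u := φ 1 with hu
    have hu0 : u ≠ 0 := by
      intro hu0
      let W₁ : AddSubgroup F :=
        { carrier := {x | φ x = 0}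
          zero_mem' := φ0
          add_mem' := fun {a b} ha hb => by
            show φ (a + b) = 0
            rw [φadd, show φ a = 0 from ha, show φ b = 0 from hb, add_zero]
          neg_mem' := fun {a} ha => by rw [CharTwo.neg_eq]; exact ha }
      have hW : W₁ = ⊤ := S.scal.span W₁ fun m hm => by
        obtain ⟨t, ht, htm⟩ := chi_surj σ hσ₀ m hm
        have := φeq t ht 1
        rw [mul_one, htm, ← hu, hu0, mul_zero] at this
        exact (mul_eq_zero.1 this).resolve_right (by simp)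
      have hmem : co g₀ σ ∈ W₁ := hW.symm ▸ trivial
      exact hτ₀ ((hφ _ hg₀).symm.trans hmem)
    have φmul : ∀ x y : F, φ (x * y) * u = φ x * φ y := by
      intro x y
      let W₁ : AddSubgroup F :=
        { carrier := {x | φ (x * y) * u = φ x * φ y}
          zero_mem' := by simp [φ0]
          add_mem' := fun {a b} ha hb => by
            show φ ((a + b) * y) * u = φ (a + b) * φ y
            rw [add_mul a b y, φadd, φadd, add_mul, add_mul,
              show φ (a * y) * u = _ from ha, show φ (b * y) * u = _ from hb]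
          neg_mem' := fun {a} ha => by rw [CharTwo.neg_eq]; exact ha }
      have hW : W₁ = ⊤ := S.scal.span W₁ fun m hm => by
        obtain ⟨t, ht, htm⟩ := chi_surj σ hσ₀ m hm
        have h1 := φeq t ht y
        have h2 := φeq t ht 1
        rw [mul_one, htm, ← hu] at h2
        rw [htm] at h1
        show φ (m * y) * u = φ m * φ y
        refine mul_right_cancel₀ (show τ (t : F) ≠ 0 by simp) ?_
        linear_combination u * h1 - φ y * h2
      exact (hW.symm ▸ trivial : x ∈ W₁)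
    let ψ₀ : F →+* F :=
      { toFun := fun x => φ x / u
        map_one' := div_self hu0
        map_zero' := by simp [φ0]
        map_add' := fun x y => by simp only [φadd, add_div]
        map_mul' := fun x y => by
          rw [div_mul_div_comm, div_eq_div_iff hu0 (mul_ne_zero hu0 hu0)]
          linear_combination u * φmul x y }
    let ψ : F ≃+* F := RingEquiv.ofBijective ψ₀
      ⟨ψ₀.injective, Finite.surjective_of_injective ψ₀.injective⟩
    refine hne (S.scal.pairs ψ σ τ (chi_inj σ hσ₀) (chi_inj τ hτ₀) fun m hm => ?_).symm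
    have h := φeq m hm 1
    rw [mul_one] at h
    have h' : ψ ((m : F) / σ m) * τ (m : F) = m := by
      show φ ((m : F) / σ m) / u * τ (m : F) = m
      rw [div_mul_eq_mul_div, h, ← hu, mul_div_assoc, div_self hu0, mul_one]
    rw [map_div₀, div_mul_eq_mul_div, div_eq_iff (by simp)] at h'
    exact h'
  refine ⟨σ, fun g => co g σ, fun g hg z => ?_, fun g hg h => hker σ hσ₀ g hg h, fun t ht => ?_,
    chi_eq σ hσ₀⟩
  · rw [hco, Finset.sum_eq_single σ (fun τ _ hτ => by rw [only τ hτ g hg, zero_mul]) (by simp)]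
  · exact csurj σ hσ₀ t

theorem Family.eq_zero {g : G} (hg : g ∈ S.V) {z : F} (hz : z ≠ 0) (h : S.b g z = 0) : S.b g = 0 := by
  obtain ⟨σ, c, hb, hc, -, -⟩ := S.semilinear
  rw [hb g hg] at h
  exact hc g hg ((mul_eq_zero.1 h).resolve_right (by simp [hz]))

theorem Family.fixed_unique {g : G} (hg : g ∈ S.V) {z z' : F} (hz : z ≠ 0) (hz' : z' ≠ 0)
    (h : S.b g z = z) (h' : S.b g z' = z') : z = z' := by
  obtain ⟨σ, c, hb, -, -, hinj⟩ := S.semilinear
  rw [hb g hg] at h h'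
  refine hinj z z' hz hz' ?_
  calc z * σ z' = c g * σ z * σ z' := by rw [h]
    _ = c g * σ z' * σ z := by ring
    _ = z' * σ z := by rw [h']

theorem Family.fixing_unique {g g' : G} (hg : g ∈ S.V) (hg' : g' ∈ S.V) {z : F} (hz : z ≠ 0)
    (h : S.b g z = z) (h' : S.b g' z = z) : S.b g = S.b g' := by
  obtain ⟨σ, c, hb, -, -, -⟩ := S.semilinear
  rw [hb g hg] at h
  rw [hb g' hg'] at h'
  have : c g = c g' := mul_right_cancel₀ (b := σ z) (by simp [hz]) (h.trans h'.symm)
  exact AddMonoidHom.ext fun x => by rw [hb g hg, hb g' hg', this]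

theorem Family.exists_two : ∃ g ∈ S.V, ∃ g' ∈ S.V, S.b g ≠ 0 ∧ S.b g' ≠ 0 ∧ S.b g ≠ S.b g' := by
  obtain ⟨σ, c, hb, -, hs, -⟩ := S.semilinear
  obtain ⟨t, ht, ht1⟩ := S.three
  obtain ⟨g, hg, hgc⟩ := hs 1 one_ne_zero
  obtain ⟨g', hg', hgc'⟩ := hs t ht
  refine ⟨g, hg, g', hg', fun h => ?_, fun h => ?_, fun h => ?_⟩
  · have := DFunLike.congr_fun h 1
    rw [hb g hg, hgc] at this
    simp at this
  · have := DFunLike.congr_fun h 1
    rw [hb g' hg', hgc'] at this
    simp [ht] at this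
  · have := DFunLike.congr_fun h 1
    rw [hb g hg, hb g' hg', hgc, hgc'] at this
    simp [Ne.symm ht1] at this

end Cfsg.Agent.Lib.SuzukiSol
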