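import Cfsg.Agent.Lib.SuzukiSol.Basic
import Cfsg.Agent.Lib.SuzukiSol.Semilinear

/-!
# Squares are central (Higman), for a solvable group of automorphisms transitive on the involutions
-/

set_option autoImplicit false
set_option linter.style.haveILetI false

namespace Cfsg.Agent.Lib.SuzukiSol

open Cfsg.Agent.Lib.Suzuki2.Basic (exists_pow_two_eq_one exists_involution_pow apply_center
  mk_mem_center_iff comm_elem_mul_left comm_sq)
open scoped commutatorElement

universe u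

/-- The hypotheses: a non-commutative 2-group with at least two involutions and `TransSol`. -/
structure Setup {P : Type*} [Group P] (Y : Subgroup (MulAut P)) : Prop where
  tr : TransSol Y
  pgroup : IsPGroup 2 P
  noncomm : ∃ x y : P, x * y ≠ y * x
  two : ∃ x y : P, x ≠ y ∧ x ≠ 1 ∧ x * x = 1 ∧ y ≠ 1 ∧ y * y = 1

variable {P : Type u} [Group P] [Finite P] {Y₀ : Subgroup (MulAut P)}

theorem center_sq (hS : Setup Y₀) {z : P} (hz : z ∈ Subgroup.center P) : z * z = 1 :=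
  center_sq_eq_one hS.pgroup hS.tr hS.noncomm hz

theorem mem_center_of_sq (hS : Setup Y₀) {x : P} (hx : x * x = 1) : x ∈ Subgroup.center P :=
  involution_central hS.pgroup hS.tr hx

/-- An automorphism that fixes a coset of an invariant subgroup fixes an involution. -/
theorem coset_free {F : Type} [Field F] [Fintype F] [CharP F 2] {ι : P → F} {M : Subgroup Fˣ}
    (hS : Setup Y₀) (hC : Coord Y₀ ι M) {i₀ : P} (hι₀ : ι i₀ = 1) (hi₀ : i₀ * i₀ = 1)
    {k : MulAut P} (hk : ∀ x, x * x = 1 → ι (k x) = ι (k i₀) * ι x) {H : Subgroup P}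
    (hH : ∀ x ∈ H, k x ∈ H) {g : P} (hg : g ∉ H) (h : g⁻¹ * k g ∈ H) : ι (k i₀) = 1 := by
  classical
  set l := ι (k i₀) with hl
  by_contra hne
  haveI : Finite (MulAut P) := Finite.of_injective (fun f => (f : P → P)) DFunLike.coe_injective
  have hsqk : ∀ (f : MulAut P) {x : P}, x * x = 1 → f x * f x = 1 := fun f x hx => by
    rw [← map_mul, hx, map_one]
  have hpow : ∀ (j : ℕ) (x : P), x * x = 1 → ι ((k ^ j) x) = l ^ j * ι x := by
    intro j
    induction j with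
    | zero => intro x _; simp
    | succ j ih =>
      intro x hx
      rw [pow_succ', MulAut.mul_apply, hk _ (hsqk _ hx), ih x hx, pow_succ', mul_assoc]
  have hl0 : l ≠ 0 := fun h0 => by
    have := hk _ (hsqk k⁻¹ hi₀)
    rw [show k (k⁻¹ i₀) = i₀ from k.apply_symm_apply i₀, hι₀, h0, zero_mul] at this
    exact one_ne_zero this
  have hlN : l ^ orderOf k = 1 := by
    have := hpow (orderOf k) i₀ hi₀
    rw [pow_orderOf_eq_one, MulAut.one_apply, hι₀, mul_one] at this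
    exact this.symm
  obtain ⟨p, hp, hpl⟩ := Nat.exists_prime_and_dvd (n := orderOf l) (by
    rw [Ne, orderOf_eq_one_iff]; exact hne)
  haveI := Fact.mk hp
  obtain ⟨a, u, hu, hau⟩ := Nat.exists_eq_pow_mul_and_not_dvd (orderOf_pos k).ne' p hp.ne_one
  have hlu : l ^ u ≠ 1 := fun h => hu (hpl.trans (orderOf_dvd_of_pow_eq_one h))
  have hk' : ∀ x ∈ H, (k ^ u) x ∈ H := by
    clear hu hau hlu
    induction u with
    | zero => intro x hx; simpa using hx
    | succ u ih => intro x hx; rw [pow_succ', MulAut.mul_apply]; exact hH _ (ih x hx)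
  let X := {x : P // g⁻¹ * x ∈ H}
  have hmem : ∀ (j : ℕ) (x : P), g⁻¹ * x ∈ H → g⁻¹ * (k ^ j) x ∈ H := by
    intro j
    induction j with
    | zero => intro x hx; simpa using hx
    | succ j ih =>
      intro x hx
      rw [pow_succ', MulAut.mul_apply]
      have h1 := hH _ (ih x hx)
      rw [map_mul, map_inv] at h1
      have := H.mul_mem h h1
      rwa [mul_assoc, mul_inv_cancel_left] at this
  have hzmem : ∀ f ∈ Subgroup.zpowers (k ^ u), ∃ j, k ^ j = f := by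
    intro f hf
    obtain ⟨i, hi⟩ := (mem_powers_iff_mem_zpowers (x := k ^ u)).2 hf
    exact ⟨u * i, by rw [pow_mul]; exact hi⟩
  letI act : MulAction (Subgroup.zpowers (k ^ u)) X :=
    { smul := fun f x => ⟨(f : MulAut P) x, by
        obtain ⟨j, hj⟩ := hzmem f f.2
        rw [← hj]; exact hmem j _ x.2⟩
      one_smul := fun x => Subtype.ext rfl
      mul_smul := fun _ _ _ => Subtype.ext rfl }
  have hLp : IsPGroup p (Subgroup.zpowers (k ^ u)) := IsPGroup.of_card (n := a) (by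
    rw [Nat.card_zpowers, orderOf_pow, hau, Nat.gcd_eq_right (dvd_mul_left u _),
      Nat.mul_div_cancel _ (Nat.pos_of_ne_zero fun h0 => hu (by rw [h0]; exact dvd_zero p))])
  have hfix : IsEmpty (MulAction.fixedPoints (Subgroup.zpowers (k ^ u)) X) := by
    refine ⟨fun ⟨x, hx⟩ => hlu ?_⟩
    have h1 : (k ^ u) x.1 = x.1 := congrArg Subtype.val (hx ⟨_, Subgroup.mem_zpowers _⟩)
    have hx1 : (x.1 : P) ≠ 1 := fun e => hg (by simpa [e] using x.2)
    obtain ⟨j, hj1, hj⟩ := exists_involution_pow hS.pgroup hx1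
    have := hpow u _ hj
    rw [map_pow, h1] at this
    exact (mul_eq_right₀ fun h0 => hj1 (hC.inj _ _ hj (one_mul 1) (h0.trans hC.one.symm))).1 this.symm
  have hmod := hLp.card_modEq_card_fixedPoints X
  rw [Nat.card_of_isEmpty (α := MulAction.fixedPoints (Subgroup.zpowers (k ^ u)) X),
    Nat.modEq_zero_iff_dvd,
    Nat.card_congr ((Equiv.mulLeft g⁻¹).subtypeEquiv (p := fun x => g⁻¹ * x ∈ H)
      (q := fun x => x ∈ H) fun _ => Iff.rfl)] at hmod
  haveI : Fact (Nat.Prime 2) := ⟨Nat.prime_two⟩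
  obtain ⟨e, he⟩ := IsPGroup.iff_card.1 (hS.pgroup.to_subgroup H)
  rw [show Nat.card {x // x ∈ H} = 2 ^ e from he] at hmod
  have h2 : p = 2 := (Nat.prime_dvd_prime_iff_eq hp Nat.prime_two).1 (hp.dvd_of_dvd_pow hmod)
  subst h2
  have hdvd : orderOf (Units.mk0 l hl0) ∣ Fintype.card F - 1 := by
    rw [← Fintype.card_units]; exact orderOf_dvd_card
  rw [← orderOf_units, Units.val_mk0] at hdvd
  obtain ⟨r, -, hr⟩ := FiniteField.card F 2
  have h3 := hpl.trans hdvd
  rw [hr] at h3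
  have : 2 ∣ 2 ^ (r : ℕ) := dvd_pow_self 2 r.pos.ne'
  have := Nat.one_le_two_pow (n := (r : ℕ))
  omega

/-- All squares are central. -/
theorem sq_mem_center (hS : Setup Y₀) (a : P) : a * a ∈ Subgroup.center P := by
  classical
  haveI : Fact (Nat.Prime 2) := ⟨Nat.prime_two⟩
  by_contra ha
  have hc : ∀ {z : P}, z ∈ Subgroup.center P → ∀ g, g * z = z * g := fun h g =>
    Subgroup.mem_center_iff.1 h g
  have hcl : ∀ a b c : P, ⁅a * b, c⁆ = a * ⁅b, c⁆ * a⁻¹ * ⁅a, c⁆ := fun a b c => by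
    simp only [commutatorElement_def]; group
  have hcr : ∀ a b c : P, ⁅a, b * c⁆ = ⁅a, b⁆ * (b * ⁅a, c⁆ * b⁻¹) := fun a b c => by
    simp only [commutatorElement_def]; group
  have hcj : ∀ (z : P), z ∈ Subgroup.center P → ∀ g, g * z * g⁻¹ = z := fun z hz g => by
    rw [hc hz g]; group
  have hinvol : ∀ {z : P}, z ∈ Subgroup.center P → z⁻¹ = z := fun hz =>
    inv_eq_of_mul_eq_one_left (center_sq hS hz)
  -- the second centre
  let Y : Subgroup P :=
    (Subgroup.center (P ⧸ Subgroup.center P)).comap (QuotientGroup.mk' (Subgroup.center P))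
  have hY : ∀ {x}, x ∈ Y ↔ ∀ g, ⁅x, g⁆ ∈ Subgroup.center P := fun {x} =>
    Subgroup.mem_comap.trans mk_mem_center_iff
  have hY' : ∀ {x}, x ∈ Y → ∀ g, ⁅g, x⁆ ∈ Subgroup.center P := fun {x} hx g => by
    rw [← commutatorElement_inv]; exact Subgroup.inv_mem _ (hY.1 hx g)
  have hZY : ∀ z ∈ Subgroup.center P, z ∈ Y := fun z hz => hY.2 fun g => by
    rw [commutatorElement_def, ← hc hz g]; simp
  have hYsq : ∀ x ∈ Y, x * x ∈ Subgroup.center P := fun x hx => Subgroup.mem_center_iff.2 fun g => by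
    have h1 : ⁅x * x, g⁆ = 1 := by rw [comm_elem_mul_left (hY.1 hx g), center_sq hS (hY.1 hx g)]
    exact (commutatorElement_eq_one_iff_mul_comm.1 h1).symm
  have haY : a ∉ Y := fun h => ha (hYsq a h)
  have hYsqc : ∀ y ∈ Y, ∀ g : P, Commute y (g * g) := fun y hy g => by
    refine commutatorElement_eq_one_iff_mul_comm.1 ?_
    rw [hcr, hcj _ (hY.1 hy g) g, center_sq hS (hY.1 hy g)]
  have hcsq : ∀ u v : P, ⁅u, v⁆ = u * u * ((u⁻¹ * v) * (u⁻¹ * v)) * (v⁻¹ * v⁻¹) := fun u v => by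
    simp only [commutatorElement_def]; group
  have hYcomm : ∀ y ∈ Y, ∀ u v : P, Commute y ⁅u, v⁆ := fun y hy u v => by
    rw [hcsq]
    exact ((hYsqc y hy u).mul_right (hYsqc y hy _)).mul_right (hYsqc y hy _)
  haveI hYn : Y.Normal := Subgroup.Normal.comap inferInstance _
  have hconj : ∀ y ∈ Y, ∀ g, g * y * g⁻¹ ∈ Y := fun y hy g => hYn.conj_mem y hy g
  -- the third centre
  haveI : Nontrivial (P ⧸ Y) := ⟨⟨(a : P ⧸ Y), 1, fun h => haY ((QuotientGroup.eq_one_iff _).1 h)⟩⟩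
  haveI := (hS.pgroup.to_quotient Y).center_nontrivial
  let R : Subgroup P := (Subgroup.center (P ⧸ Y)).comap (QuotientGroup.mk' Y)
  have hR : ∀ {x}, x ∈ R ↔ ∀ g, ⁅x, g⁆ ∈ Y := by
    intro x
    constructor
    · intro hx g
      rw [← QuotientGroup.eq_one_iff, ← QuotientGroup.mk'_apply, map_commutatorElement,
        commutatorElement_eq_one_iff_mul_comm]
      exact (Subgroup.mem_center_iff.1 hx _).symm
    · intro hx
      rw [Subgroup.mem_comap, Subgroup.mem_center_iff]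
      intro g
      obtain ⟨g, rfl⟩ := QuotientGroup.mk_surjective g
      have := (QuotientGroup.eq_one_iff _).2 (hx g)
      rw [← QuotientGroup.mk'_apply, map_commutatorElement, commutatorElement_eq_one_iff_mul_comm] at this
      exact this.symm
  have hYR : ∀ y ∈ Y, y ∈ R := fun y hy => hR.2 fun g => hZY _ (hY.1 hy g)
  obtain ⟨x₀, hx₀R, hx₀Y⟩ : ∃ x ∈ R, x ∉ Y := by
    obtain ⟨⟨q, hq⟩, hq1⟩ := exists_ne (1 : Subgroup.center (P ⧸ Y))
    obtain ⟨x, rfl⟩ := QuotientGroup.mk_surjective q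
    exact ⟨x, hq, fun h => hq1 (Subtype.ext ((QuotientGroup.eq_one_iff _).2 h))⟩
  obtain ⟨g₀, hg₀⟩ : ∃ g, ⁅x₀, g⁆ ∉ Subgroup.center P := by
    by_contra h
    push Not at h
    exact hx₀Y (hY.2 h)
  set u₀ := ⁅x₀, g₀⁆ with hu₀
  have hu₀Y : u₀ ∈ Y := hR.1 hx₀R g₀
  -- the second centre is commutative and squaring maps it onto the centre
  have hkY : ∀ (k : MulAut P), ∀ y ∈ Y, k y ∈ Y := fun k y hy => hY.2 fun g => by
    have := apply_center k (hY.1 hy (k⁻¹ g))
    rwa [map_commutatorElement, show k (k⁻¹ g) = g from k.apply_symm_apply g] at this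
  have hkR : ∀ (k : MulAut P), ∀ x ∈ R, k x ∈ R := fun k x hx => hR.2 fun g => by
    have := hkY k _ (hR.1 hx (k⁻¹ g))
    rwa [map_commutatorElement, show k (k⁻¹ g) = g from k.apply_symm_apply g] at this
  have hu₀sq : u₀ * u₀ ≠ 1 := fun h => hg₀ (mem_center_of_sq hS h)
  have hroot : ∀ z ∈ Subgroup.center P, ∃ y ∈ Y, (∀ y' ∈ Y, Commute y y') ∧ y * y = z := by
    intro z hz
    by_cases hz1 : z = 1
    · exact ⟨1, Y.one_mem, fun y' _ => Commute.one_left y', by simp [hz1]⟩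
    obtain ⟨k, -, hk⟩ := hS.tr.trans _ z hu₀sq (center_sq hS (hYsq _ hu₀Y)) hz1 (center_sq hS hz)
    refine ⟨k u₀, hkY k _ hu₀Y, fun y' hy' => ?_, by rw [← map_mul, hk]⟩
    rw [hu₀, map_commutatorElement]
    exact (hYcomm y' hy' _ _).symm
  have hYab : ∀ y ∈ Y, ∀ y' ∈ Y, Commute y y' := by
    intro y hy y' hy'
    obtain ⟨u, hu, huc, huy⟩ := hroot _ (hYsq y hy)
    have h1 : y * u⁻¹ * (y * u⁻¹) = 1 := by
      rw [show y * u⁻¹ * (y * u⁻¹) = y * (u⁻¹ * y) * u⁻¹ by group,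
        (huc y hy).inv_left.eq, show y * (y * u⁻¹) * u⁻¹ = y * y * (u * u)⁻¹ by group, huy, mul_inv_cancel]
    have h2 : Commute (y * u⁻¹) y' := (hc (mem_center_of_sq hS h1) y').symm
    have h3 := h2.mul_left (huc y' hy')
    rwa [inv_mul_cancel_right] at h3
  -- the centraliser of Y is commutative
  let C := Subgroup.centralizer (Y : Set P)
  have hCmem : ∀ {g}, g ∈ C ↔ ∀ y ∈ Y, y * g = g * y := fun {g} => Subgroup.mem_centralizer_iff
  have hYC : ∀ y ∈ Y, y ∈ C := fun y hy => hCmem.2 fun y' hy' => hYab y' hy' y hy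
  have hsqC : ∀ g : P, g * g ∈ C := fun g => hCmem.2 fun y hy => hYsqc y hy g
  have hkC : ∀ (k : MulAut P), ∀ g ∈ C, k g ∈ C := fun k g hg => hCmem.2 fun y hy => by
    have h1 := congrArg k (hCmem.1 hg _ (hkY k⁻¹ y hy))
    rwa [map_mul, map_mul, show k (k⁻¹ y) = y from k.apply_symm_apply y] at h1
  have hCab : ∀ g ∈ C, ∀ g' ∈ C, Commute g g' := by
    let resC : MulAut P → MulAut C := fun k =>
      { toFun := fun z => ⟨k z, hkC k _ z.2⟩
        invFun := fun z => ⟨k⁻¹ z, hkC k⁻¹ _ z.2⟩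
        left_inv := fun z => Subtype.ext (k.symm_apply_apply z)
        right_inv := fun z => Subtype.ext (k.apply_symm_apply z)
        map_mul' := fun z z' => Subtype.ext (map_mul k z.1 z'.1) }
    let resH : MulAut P →* MulAut C :=
      { toFun := resC
        map_one' := by ext; rfl
        map_mul' := fun _ _ => by ext; rfl }
    have htr : TransSol (Y₀.map resH) := by
      refine ⟨?_, fun x y hx1 hx hy1 hy => ?_⟩
      · haveI := hS.tr.solv
        exact solvable_of_surjective (resH.subgroupMap_surjective Y₀)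
      · obtain ⟨k, hk, hkxy⟩ := hS.tr.trans x.1 y.1 (fun h => hx1 (Subtype.ext h))
          (congrArg Subtype.val hx) (fun h => hy1 (Subtype.ext h)) (congrArg Subtype.val hy)
        exact ⟨resH k, Subgroup.mem_map_of_mem _ hk, Subtype.ext hkxy⟩
    intro g hg g' hg'
    have h := higman (P := C) (hS.pgroup.to_subgroup C) htr (z := ⟨u₀, hYC _ hu₀Y⟩)
      (Subgroup.mem_center_iff.2 fun c => Subtype.ext (hCmem.1 c.2 u₀ hu₀Y).symm)
      (fun h => hu₀sq (congrArg Subtype.val h)) ⟨g, hg⟩ ⟨g', hg'⟩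
    exact congrArg Subtype.val h
  -- the field
  obtain ⟨i₀, i₁, hi01, hi₀1, hi₀, hi₁1, hi₁⟩ := hS.two
  have hi₀c := mem_center_of_sq hS hi₀
  obtain ⟨F, _, _, _, ι, M, hC, ι_i₀⟩ := hS.tr.exists_coord
    (fun x y hx _ => (hc (mem_center_of_sq hS hx) y).symm) hi₀1 hi₀
  have ι_mul : ∀ x y, x ∈ Subgroup.center P → y ∈ Subgroup.center P → ι (x * y) = ι x + ι y :=
    fun x y hx hy => hC.mul x y (center_sq hS hx) (center_sq hS hy)
  have ι_one : ι 1 = 0 := hC.one
  have ι_inj : ∀ x y, x ∈ Subgroup.center P → y ∈ Subgroup.center P → ι x = ι y → x = y :=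
    fun x y hx hy => hC.inj x y (center_sq hS hx) (center_sq hS hy)
  have ι_surj : ∀ t, ∃ z ∈ Subgroup.center P, ι z = t := fun t => by
    obtain ⟨z, hz, rfl⟩ := hC.surj t
    exact ⟨z, mem_center_of_sq hS hz, rfl⟩
  have three : ∃ t : F, t ≠ 0 ∧ t ≠ 1 := by
    refine ⟨ι i₁, fun h => hi₁1 (hC.inj _ _ hi₁ (one_mul 1) (h.trans hC.one.symm)), fun h => ?_⟩
    exact hi01 (hC.inj _ _ hi₀ hi₁ (ι_i₀.trans h.symm))
  -- the automorphisms acting as multipliers
  let L : Set (MulAut P) :=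
    {k | k ∈ Y₀ ∧ (∀ z ∈ Subgroup.center P, ι (k z) = ι (k i₀) * ι z)}
  have ι_k : ∀ k ∈ L, ∀ z ∈ Subgroup.center P, ι (k z) = ι (k i₀) * ι z := fun k hk => hk.2
  have lift : ∀ m ∈ M, ∃ k ∈ L, ι (k i₀) = (m : F) := by
    intro m hm
    obtain ⟨k, hk, hk'⟩ := hC.lift m hm
    have e : ι (k i₀) = (m : F) := by rw [hk' _ hi₀, ι_i₀, mul_one]
    exact ⟨k, ⟨hk, fun z hz => by rw [e, hk' z (center_sq hS hz)]⟩, e⟩
  have inv_L : ∀ k ∈ L, k⁻¹ ∈ L := by
    intro k hk
    have e : ∀ z ∈ Subgroup.center P, ι z = ι (k i₀) * ι (k⁻¹ z) := fun z hz => by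
      rw [← ι_k k hk _ (apply_center k⁻¹ hz)]
      exact congrArg ι (k.apply_symm_apply z).symm
    have e0 := e i₀ hi₀c
    rw [ι_i₀] at e0
    refine ⟨Y₀.inv_mem hk.1, fun z hz => ?_⟩
    rw [e z hz, ← mul_assoc, mul_comm (ι (k⁻¹ i₀)), ← e0, one_mul]
  have lam_ne : ∀ k : MulAut P, ι (k i₀) ≠ 0 := fun k h => hi₀1 (by
    have := ι_inj _ _ (apply_center k hi₀c) (Subgroup.one_mem _) (h.trans ι_one.symm)
    exact k.injective (this.trans (map_one k).symm))
  have free : ∀ k ∈ L, ∀ H : Subgroup P, (∀ x ∈ H, k x ∈ H) → ∀ g : P, g ∉ H → g⁻¹ * k g ∈ H →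
      ι (k i₀) = 1 := fun k hk H hH g hg h =>
    coset_free hS hC ι_i₀ hi₀ (fun z hz => ι_k k hk z (mem_center_of_sq hS hz)) hH hg h
  -- squares on Y
  let ρ : P → F := fun y => ι (y * y)
  have ρ_mul : ∀ y ∈ Y, ∀ y' ∈ Y, ρ (y * y') = ρ y + ρ y' := fun y hy y' hy' => by
    show ι _ = ι _ + ι _
    rw [← ι_mul _ _ (hYsq y hy) (hYsq y' hy'), (hYab y hy y' hy').mul_mul_mul_comm]
  have ρ_center : ∀ z ∈ Subgroup.center P, ρ z = 0 := fun z hz => by
    show ι (z * z) = 0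
    rw [center_sq hS hz, ι_one]
  have ρ_zero : ∀ y ∈ Y, ρ y = 0 → y ∈ Subgroup.center P := fun y hy h =>
    mem_center_of_sq hS (ι_inj _ _ (hYsq y hy) (Subgroup.one_mem _) (h.trans ι_one.symm))
  have ρ_conj : ∀ y ∈ Y, ∀ g, ρ (g * y * g⁻¹) = ρ y := fun y hy g => by
    show ι _ = ι _
    rw [show g * y * g⁻¹ * (g * y * g⁻¹) = g * (y * y) * g⁻¹ by group, hcj _ (hYsq y hy)]
  have hrt : ∀ t : F, ∃ y ∈ Y, ρ y = t := fun t => by
    obtain ⟨z, hz, rfl⟩ := ι_surj t
    obtain ⟨y, hy, -, rfl⟩ := hroot z hz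
    exact ⟨y, hy, rfl⟩
  choose r hrY hrρ using hrt
  have cmul : ∀ g : P, ∀ y ∈ Y, ∀ y' ∈ Y, ι ⁅g, y * y'⁆ = ι ⁅g, y⁆ + ι ⁅g, y'⁆ := fun g y hy y' hy' => by
    rw [hcr, hcj _ (hY' hy' g), ι_mul _ _ (hY' hy g) (hY' hy' g)]
  have cwd : ∀ g : P, ∀ y ∈ Y, ∀ y' ∈ Y, ρ y = ρ y' → ι ⁅g, y⁆ = ι ⁅g, y'⁆ := by
    intro g y hy y' hy' h
    have hz : y * y' ∈ Subgroup.center P := ρ_zero _ (Y.mul_mem hy hy') (by
      rw [ρ_mul y hy y' hy', h, CharTwo.add_self_eq_zero])
    have h1 := cmul g y hy y' hy'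
    rw [show ⁅g, y * y'⁆ = 1 from commutatorElement_eq_one_iff_mul_comm.2 (hc hz g), ι_one] at h1
    exact (CharTwo.add_eq_zero).1 h1.symm
  let b : P → (F →+ F) := fun g => AddMonoidHom.mk' (fun t => ι ⁅g, r t⁆) fun s t => by
    rw [← cmul g _ (hrY s) _ (hrY t)]
    exact cwd g _ (hrY _) _ (Y.mul_mem (hrY s) (hrY t)) (by rw [hrρ, ρ_mul _ (hrY s) _ (hrY t), hrρ, hrρ])
  have b_spec : ∀ g : P, ∀ y ∈ Y, b g (ρ y) = ι ⁅g, y⁆ := fun g y hy => cwd g _ (hrY _) y hy (hrρ _)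
  have b_mul : ∀ g h : P, b (g * h) = b g + b h := fun g h => AddMonoidHom.ext fun t => by
    show ι ⁅g * h, r t⁆ = ι ⁅g, r t⁆ + ι ⁅h, r t⁆
    rw [comm_elem_mul_left (hY' (hrY t) h), ι_mul _ _ (hY' (hrY t) g) (hY' (hrY t) h)]
  have b_zero : ∀ g : P, b g = 0 ↔ g ∈ C := by
    intro g
    constructor
    · intro h
      refine hCmem.2 fun y hy => ?_
      have h1 := DFunLike.congr_fun h (ρ y)
      rw [b_spec g y hy] at h1
      exact (commutatorElement_eq_one_iff_mul_comm.1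
        (ι_inj _ _ (hY' hy g) (Subgroup.one_mem _) (h1.trans ι_one.symm))).symm
    · intro h
      refine AddMonoidHom.ext fun t => ?_
      show ι ⁅g, r t⁆ = 0
      rw [commutatorElement_eq_one_iff_mul_comm.2 (hCmem.1 h _ (hrY t)).symm, ι_one]
  have b_equiv : ∀ k ∈ L, ∀ g t, b (k g) (ι (k i₀) * t) = ι (k i₀) * b g t := by
    intro k hk g t
    have h1 : ρ (k (r t)) = ι (k i₀) * t := by
      show ι (k (r t) * k (r t)) = _
      rw [← map_mul, ι_k k hk _ (hYsq _ (hrY t))]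
      exact congrArg (ι (k i₀) * ·) (hrρ t)
    rw [← h1, b_spec _ _ (hkY k _ (hrY t)), ← map_commutatorElement, ι_k k hk _ (hY' (hrY t) g)]
    rfl
  have b_inv : ∀ g h : P, b g = b h → g⁻¹ * h ∈ C := fun g h e => by
    rw [← b_zero]
    have := b_mul g (g⁻¹ * h)
    rw [mul_inv_cancel_left, e] at this
    simpa using this
  -- an equivariant family below any invariant subgroup not centralising Y
  have mkFam : ∀ R₀ : Subgroup P, (∀ k ∈ L, ∀ g ∈ R₀, k g ∈ R₀) → (∃ g ∈ R₀, b g ≠ 0) →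
      ∃ S : Family P L F, S.b = b ∧ S.V ≤ R₀ ∧ S.act = fun (k : L) g => (k : MulAut P) g := by
    intro R₀ hinv hne
    let Good : Subgroup P → Prop := fun W =>
      W ≤ R₀ ∧ (∀ k ∈ L, ∀ g ∈ W, k g ∈ W) ∧ ∃ g ∈ W, b g ≠ 0
    obtain ⟨V, ⟨hVR, hVinv, hVne⟩, hVmin⟩ := (measure fun W : Subgroup P => Nat.card W).wf.has_min
      {W | Good W} ⟨R₀, le_rfl, hinv, hne⟩
    refine ⟨{ M := M
              scal := hC.scal
              act := fun k g => (k : MulAut P) g
              lam := fun k => ι ((k : MulAut P) i₀)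
              b := b
              V := V
              b_mul := b_mul
              lam_ne := fun k => lam_ne _
              lam_surj := fun m hm => ?_
              equiv := fun k g z => b_equiv _ k.2 g z
              V_inv := fun k g hg => hVinv _ k.2 g hg
              V_min := fun W hWV hWinv _ => ?_
              free := fun k g _ hg e => ?_
              ne_zero := hVne
              three := three }, rfl, hVR, rfl⟩
    · obtain ⟨k, hk, e⟩ := lift m hm
      exact ⟨⟨k, hk⟩, e⟩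
    · by_cases h : ∀ g ∈ W, b g = 0
      · exact Or.inl h
      push Not at h
      refine Or.inr (Subgroup.eq_of_le_of_card_ge hWV (not_lt.1 ?_))
      exact hVmin W ⟨hWV.trans hVR, fun k hk g hg => hWinv ⟨k, hk⟩ g hg, h⟩
    · exact free _ k.2 C (fun x hx => hkC _ x hx) g (fun h => hg ((b_zero g).2 h)) (b_inv g _ e.symm)
  -- first case: C meets the third centre in more than Y
  have hcase : ∀ x ∈ R, x ∈ C → x ∈ Y := by
    intro x hxR hxC
    by_contra hxY
    have hx2 : x * x ∈ Y := by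
      refine hY.2 fun g => ?_
      have hy := hYC _ (hR.1 hxR g)
      rw [hcl, ((hCab x hxC _ hy)).eq, mul_inv_cancel_right]
      exact hYsq _ (hR.1 hxR g)
    set s := ρ (x * x) with hs
    have hCne : ∃ g ∈ (⊤ : Subgroup P), b g ≠ 0 := by
      by_contra h
      push Not at h
      obtain ⟨u, v, huv⟩ := hS.noncomm
      exact huv (hCab u ((b_zero u).1 (h u trivial)) v ((b_zero v).1 (h v trivial)))
    obtain ⟨S, hSb, -, -⟩ := mkFam ⊤ (fun k _ g _ => trivial) hCne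
    have hrel : ∀ g : P, b g s = ρ ⁅x, g⁆ ∧ b g (ρ ⁅x, g⁆) = ρ ⁅x, g⁆ := by
      intro g
      set y := ⁅x, g⁆ with hy
      have hyY : y ∈ Y := hR.1 hxR g
      have hxy : Commute x y := hCab x hxC y (hYC _ hyY)
      constructor
      · rw [hs, b_spec g _ hx2]
        show _ = ι (y * y)
        have e : ⁅x * x, g⁆ = y * y := by rw [hcl, hxy.eq, mul_inv_cancel_right]
        rw [← commutatorElement_inv, e, hinvol (hYsq y hyY)]
      · rw [b_spec g _ hyY]
        show _ = ι (y * y)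
        have e : ⁅x, g * g⁆ = 1 := commutatorElement_eq_one_iff_mul_comm.2 (hCab x hxC _ (hsqC g))
        rw [hcr, ← hy, show y * (g * y * g⁻¹) = y * (⁅g, y⁆ * y) by
          simp only [commutatorElement_def]; group, ← mul_assoc, hc (hY' hyY g) y, mul_assoc] at e
        have h2 := ι_mul _ _ (hY' hyY g) (hYsq y hyY)
        rw [e, ι_one] at h2
        exact (CharTwo.add_eq_zero).1 h2.symm
    by_cases hs0 : s = 0
    · have hxx : x * x ∈ Subgroup.center P := ρ_zero _ hx2 hs0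
      obtain ⟨u, hu, -, hux⟩ := hroot _ hxx
      have h1 : x * u⁻¹ * (x * u⁻¹) = 1 := by
        rw [(Commute.mul_mul_mul_comm (hCab _ (inv_mem (hYC u hu)) x hxC) x u⁻¹), ← mul_inv_rev, hux,
          mul_inv_cancel]
      have := Y.mul_mem (hZY _ (mem_center_of_sq hS h1)) hu
      rw [inv_mul_cancel_right] at this
      exact hxY this
    obtain ⟨g, hg, g', hg', hb, hb', hne⟩ := S.exists_two
    rw [hSb] at hb hb' hne
    have hfix : ∀ g ∈ S.V, b g ≠ 0 → b g s = s := by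
      intro g hgV hb
      by_contra hns
      obtain ⟨h1, h2⟩ := hrel g
      have h3 : S.b g (s + ρ ⁅x, g⁆) = 0 := by
        rw [hSb, map_add, h1, h2, CharTwo.add_self_eq_zero]
      have h4 := S.eq_zero hgV (fun h => hns (h1.trans (CharTwo.add_eq_zero.1 h).symm)) h3
      rw [hSb] at h4
      exact hb h4
    have := S.fixing_unique hg hg' hs0 (by rw [hSb]; exact hfix g hg hb) (by rw [hSb]; exact hfix g' hg' hb')
    rw [hSb] at this
    exact hne this
  -- second case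
  have hRne : ∃ g ∈ R, b g ≠ 0 := ⟨x₀, hx₀R, fun h => hx₀Y (hcase x₀ hx₀R ((b_zero _).1 h))⟩
  obtain ⟨S, hSb, hSR, hSact⟩ := mkFam R (fun k _ g hg => hkR k g hg) hRne
  have hVY : ∀ v ∈ S.V, b v = 0 → v ∈ Y := fun v hv h => hcase v (hSR hv) ((b_zero v).1 h)
  have hsqV : ∀ v ∈ S.V, v * v ∈ Subgroup.center P := by
    intro v hv
    by_cases hb : b v = 0
    · exact hYsq v (hVY v hv hb)
    have hv2 : v * v ∈ Y := hY.2 fun g => by
      have hy := hR.1 (hSR hv) g
      rw [hcl, show v * ⁅v, g⁆ * v⁻¹ = ⁅v, ⁅v, g⁆⁆ * ⁅v, g⁆ by simp only [commutatorElement_def]; group,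
        mul_assoc]
      exact Subgroup.mul_mem _ (hY' hy v) (hYsq _ hy)
    by_contra hvc
    have h1 : S.b v (ρ (v * v)) = 0 := by
      rw [hSb, b_spec v _ hv2, show ⁅v, v * v⁆ = 1 by simp only [commutatorElement_def]; group, ι_one]
    have h2 := S.eq_zero hv (fun h => hvc (ρ_zero _ hv2 h)) h1
    rw [hSb] at h2
    exact hb h2
  have hfixL : ∀ v ∈ S.V, ∀ h : P, S.b v (ρ ⁅v, h⁆) = ρ ⁅v, h⁆ := by
    intro v hv h
    set y := ⁅v, h⁆ with hy
    have hyY : y ∈ Y := hR.1 (hSR hv) h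
    have e : ⁅v * v, h⁆ = 1 := commutatorElement_eq_one_iff_mul_comm.2 (hc (hsqV v hv) h).symm
    rw [hcl, ← hy, show v * y * v⁻¹ * y = ⁅v, y⁆ * (y * y) by simp only [commutatorElement_def]; group] at e
    have h2 := ι_mul _ _ (hY' hyY v) (hYsq y hyY)
    rw [e, ι_one] at h2
    rw [hSb, b_spec v y hyY]
    exact (CharTwo.add_eq_zero).1 h2.symm
  have hLadd : ∀ v ∈ S.V, ∀ v' ∈ S.V, ∀ h : P, ρ ⁅v * v', h⁆ = ρ ⁅v, h⁆ + ρ ⁅v', h⁆ := by
    intro v hv v' hv' h
    have h1 := hR.1 (hSR hv') h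
    rw [hcl, ρ_mul _ (hconj _ h1 v) _ (hR.1 (hSR hv) h), ρ_conj _ h1, add_comm]
  have hLzero : ∀ v ∈ S.V, b v = 0 → ∀ h : P, ρ ⁅v, h⁆ = 0 := fun v hv hb h =>
    ρ_center _ (hY.1 (hVY v hv hb) h)
  have hLinj : ∀ h : P, (∃ v ∈ S.V, ρ ⁅v, h⁆ ≠ 0) → ∀ w ∈ S.V, b w ≠ 0 → ρ ⁅w, h⁆ ≠ 0 := by
    rintro h ⟨v, hv, hvne⟩ w hw hbw hw0
    have e : ρ ⁅v * w, h⁆ = ρ ⁅v, h⁆ := by rw [hLadd v hv w hw, hw0, add_zero]
    have h1 := hfixL v hv h
    have h2 := hfixL _ (S.V.mul_mem hv hw) h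
    rw [e] at h2
    have h3 := S.fixing_unique hv (S.V.mul_mem hv hw) hvne h1 h2
    rw [hSb, b_mul] at h3
    exact hbw (by simpa using h3)
  let N : Subgroup P :=
    { carrier := {h | ∀ v ∈ S.V, ρ ⁅v, h⁆ = 0}
      one_mem' := fun v _ => by rw [commutatorElement_one_right]; exact ρ_center _ (Subgroup.one_mem _)
      mul_mem' := fun {g h} hg hh v hv => by
        have h1 := hR.1 (hSR hv) h
        rw [hcr, ρ_mul _ (hR.1 (hSR hv) g) _ (hconj _ h1 g), ρ_conj _ h1, hg v hv, hh v hv, add_zero]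
      inv_mem' := fun {g} hg v hv => by
        have h1 := hR.1 (hSR hv) g⁻¹
        have e := hcr v g g⁻¹
        rw [mul_inv_cancel, commutatorElement_one_right] at e
        have h2 := congrArg ρ e
        rw [ρ_center _ (Subgroup.one_mem _), ρ_mul _ (hR.1 (hSR hv) g) _ (hconj _ h1 g), ρ_conj _ h1,
          hg v hv, zero_add] at h2
        exact h2.symm }
  have hN2 : ∀ g h, g ∉ N → h ∉ N → g * h ∈ N := by
    intro g h hg hh v hv
    have h1 := hR.1 (hSR hv) h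
    rw [hcr, ρ_mul _ (hR.1 (hSR hv) g) _ (hconj _ h1 g), ρ_conj _ h1]
    by_cases hb : b v = 0
    · rw [hLzero v hv hb g, hLzero v hv hb h, add_zero]
    have a1 := hLinj g (by by_contra c; push Not at c; exact hg c) v hv hb
    have a2 := hLinj h (by by_contra c; push Not at c; exact hh c) v hv hb
    rw [S.fixed_unique hv a1 a2 (hfixL v hv g) (hfixL v hv h), CharTwo.add_self_eq_zero]
  obtain ⟨v₁, hv₁, -, -, hb₁, -, -⟩ := S.exists_two
  rw [hSb] at hb₁
  obtain ⟨h₁, hh₁⟩ : ∃ h, h ∉ N := by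
    by_contra hall
    push Not at hall
    exact hb₁ ((b_zero v₁).2 (hYC _ (hY.2 fun g => ρ_zero _ (hR.1 (hSR hv₁) g) (hall g v₁ hv₁))))
  have hNinv : ∀ k ∈ L, ∀ h ∈ N, k h ∈ N := by
    intro k hk h hh v hv
    have hv' : k⁻¹ v ∈ S.V := by
      have := S.V_inv ⟨k⁻¹, inv_L k hk⟩ v hv
      rw [hSact] at this
      exact this
    have e : ⁅v, k h⁆ = k ⁅k⁻¹ v, h⁆ := by
      rw [map_commutatorElement, show k (k⁻¹ v) = v from k.apply_symm_apply v]
    show ι _ = 0
    rw [e, ← map_mul, ι_k k hk _ (hYsq _ (hR.1 (hSR hv') h))]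
    exact mul_eq_zero_of_right _ (hh _ hv')
  obtain ⟨m, hm, hm1⟩ : ∃ m ∈ M, (m : F) ≠ 1 := by
    by_contra h
    push Not at h
    let W : AddSubgroup F :=
      { carrier := {x | x = 0 ∨ x = 1}
        zero_mem' := Or.inl rfl
        add_mem' := by
          rintro a b (rfl | rfl) (rfl | rfl) <;> simp [CharTwo.add_self_eq_zero]
        neg_mem' := fun {a} ha => by rw [CharTwo.neg_eq]; exact ha }
    obtain ⟨t, ht, ht1⟩ := three
    have hW := hC.scal.span W fun m hm => Or.inr (h m hm)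
    rcases (hW.symm ▸ trivial : t ∈ W) with h' | h'
    · exact ht h'
    · exact ht1 h'
  obtain ⟨k, hk, hkm⟩ := lift m hm
  refine hm1 (hkm.symm.trans (free k hk N (hNinv k hk) h₁ hh₁
    (hN2 _ _ (fun h => hh₁ (N.inv_mem_iff.1 h)) fun h => hh₁ ?_)))
  have := hNinv k⁻¹ (inv_L k hk) _ h
  rwa [show k⁻¹ (k h₁) = h₁ from k.symm_apply_apply h₁] at this

end Cfsg.Agent.Lib.SuzukiSol
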