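import Cfsg.Agent.Lib.SuzukiSol.Model
import Cfsg.Agent.Lib.Suzuki2.Basic

/-!
# Higman's lemma for a solvable group of automorphisms transitive on the involutions

If the centre has exponent larger than two, the group is commutative.
-/

set_option autoImplicit false
set_option linter.style.haveILetI false

namespace Cfsg.Agent.Lib.SuzukiSol

open Cfsg.Agent.Lib.Suzuki2.Basic (exists_pow_two_eq_one exists_involution_pow apply_center quotAut
  quotAut_mk mk_mem_center_iff comm_elem_mul_left comm_sq)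
open Cfsg.Agent.Lib.RankOne.AutSpan
open scoped commutatorElement

variable {P : Type*} [Group P] {Y : Subgroup (MulAut P)}

/-- An equivariant alternating biadditive map on the involutions vanishes. -/
theorem alternating_zero [Finite P] (hY : TransSol Y)
    (hcen : ∀ x y : P, x * x = 1 → y * y = 1 → x * y = y * x) (β : P → P → P)
    (hval : ∀ x y, x * x = 1 → y * y = 1 → β x y * β x y = 1)
    (hl : ∀ x x' y, x * x = 1 → x' * x' = 1 → y * y = 1 → β (x * x') y = β x y * β x' y)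
    (hr : ∀ x y y', x * x = 1 → y * y = 1 → y' * y' = 1 → β x (y * y') = β x y * β x y')
    (halt : ∀ x, x * x = 1 → β x x = 1)
    (heq : ∀ k ∈ Y, ∀ x y, x * x = 1 → y * y = 1 → β (k x) (k y) = k (β x y))
    {x y : P} (hx : x * x = 1) (hy : y * y = 1) : β x y = 1 := by
  classical
  by_cases hx1 : x = 1
  · subst hx1
    have := hl 1 1 y (one_mul 1) (one_mul 1) hy
    simpa using this
  obtain ⟨F, _, _, _, ι, M, hC, -⟩ := hY.exists_coord hcen hx1 hx
  haveI : Fact (Nat.Prime 2) := ⟨Nat.prime_two⟩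
  letI : Algebra (ZMod 2) F := ZMod.algebra F 2
  haveI : Finite (F ≃+* F) := Finite.of_injective (fun σ => (σ : F → F)) DFunLike.coe_injective
  haveI := Fintype.ofFinite (F ≃+* F)
  choose r hr2 hrι using hC.surj
  have rmul : ∀ s t, r (s + t) = r s * r t := fun s t => by
    have hmul : r s * r t * (r s * r t) = 1 := by
      calc r s * r t * (r s * r t) = r s * (r t * r s) * r t := by group
        _ = r s * r s * (r t * r t) := by rw [hcen _ _ (hr2 t) (hr2 s)]; group
        _ = 1 := by rw [hr2, hr2, mul_one]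
    refine hC.inj _ _ (hr2 _) hmul ?_
    rw [hrι, hC.mul _ _ (hr2 s) (hr2 t), hrι, hrι]
  let B : F →+ F →+ F := AddMonoidHom.mk'
    (fun s => AddMonoidHom.mk' (fun t => ι (β (r s) (r t))) fun t t' => by
      rw [rmul, hr _ _ _ (hr2 s) (hr2 t) (hr2 t'), hC.mul _ _ (hval _ _ (hr2 s) (hr2 t))
        (hval _ _ (hr2 s) (hr2 t'))])
    fun s s' => AddMonoidHom.ext fun t => by
      show ι (β (r (s + s')) (r t)) = ι (β (r s) (r t)) + ι (β (r s') (r t))
      rw [rmul, hl _ _ _ (hr2 s) (hr2 s') (hr2 t), hC.mul _ _ (hval _ _ (hr2 s) (hr2 t))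
        (hval _ _ (hr2 s') (hr2 t))]
  obtain ⟨c, hc⟩ := exists_coeffs₂ 2 B
  have uniq : ∀ d : (F ≃+* F) × (F ≃+* F) → F,
      (∀ u v, ∑ q, d q * (q.1 u * q.2 v) = 0) → ∀ q, d q = 0 := by
    intro d h q
    have h1 : ∀ v, ∀ σ, (∑ τ, d (σ, τ) * τ v) = 0 := fun v σ =>
      Fintype.linearIndependent_iff.1 (linearIndependent_aut (F := F))
        (fun σ => ∑ τ, d (σ, τ) * τ v) (by
          funext u
          have := h u v
          rw [Fintype.sum_prod_type] at this
          simp only [Finset.sum_apply, Pi.smul_apply, smul_eq_mul, RingHom.coe_coe, Finset.sum_mul,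
            Pi.zero_apply]
          rw [← this]
          exact Finset.sum_congr rfl fun σ _ => Finset.sum_congr rfl fun τ _ => by ring) σ
    exact Fintype.linearIndependent_iff.1 (linearIndependent_aut (F := F))
      (fun τ => d (q.1, τ)) (by
        funext v
        simpa [Finset.sum_apply] using h1 v q.1) q.2
  have hdiag : ∀ q, q.1 ≠ q.2 → c q = 0 := by
    intro q hq
    by_contra hcq
    refine hq (hC.scal.alt _ _ fun m hm => ?_)
    obtain ⟨k, hk, hkι⟩ := hC.lift m hm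
    have hkr : ∀ s, r ((m : F) * s) = k (r s) := fun s => hC.inj _ _ (hr2 _)
      (by rw [← map_mul, hr2, map_one]) (by rw [hrι, hkι _ (hr2 s), hrι])
    have h := uniq (fun q => c q * (q.1 (m : F) * q.2 m) - m * c q) (fun u v => by
      have e : B ((m : F) * u) ((m : F) * v) = (m : F) * B u v := by
        show ι (β (r ((m : F) * u)) (r ((m : F) * v))) = (m : F) * ι (β (r u) (r v))
        rw [hkr, hkr, heq k hk _ _ (hr2 u) (hr2 v), hkι _ (hval _ _ (hr2 u) (hr2 v))]
      rw [hc, hc, Finset.mul_sum, ← sub_eq_zero, ← Finset.sum_sub_distrib] at e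
      refine Eq.trans ?_ e
      refine Finset.sum_congr rfl fun q _ => ?_
      rw [map_mul, map_mul]; ring) q
    rw [sub_eq_zero, mul_comm (m : F)] at h
    exact mul_left_cancel₀ hcq h
  have hsum : ∀ u v, B u v = ∑ σ, c (σ, σ) * σ (u * v) := by
    intro u v
    rw [hc, Fintype.sum_prod_type]
    refine Finset.sum_congr rfl fun σ _ => ?_
    rw [Finset.sum_eq_single σ (fun τ _ hτ => by rw [hdiag (σ, τ) (Ne.symm hτ), zero_mul])
      (by simp), map_mul]
  have hzero : ∀ σ, c (σ, σ) = 0 := fun σ =>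
    Fintype.linearIndependent_iff.1 (linearIndependent_aut (F := F)) (fun σ => c (σ, σ)) (by
      funext w
      obtain ⟨u, rfl⟩ := Finite.surjective_of_injective (frobenius F 2).injective w
      have e : B u u = 0 := by
        show ι (β (r u) (r u)) = 0
        rw [halt _ (hr2 u), hC.one]
      rw [hsum] at e
      simpa [Finset.sum_apply, frobenius_def, sq] using e) σ
  have hkey : ι (β x y) = 0 := by
    have e1 : r (ι x) = x := hC.inj _ _ (hr2 _) hx (hrι _)
    have e2 : r (ι y) = y := hC.inj _ _ (hr2 _) hy (hrι _)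
    have e : B (ι x) (ι y) = 0 := by simp [hsum, hzero]
    change ι (β (r (ι x)) (r (ι y))) = 0 at e
    rwa [e1, e2] at e
  exact hC.inj _ _ (hval x y hx hy) (one_mul 1) (hkey.trans hC.one.symm)

theorem involution_central [Finite P] (hP : IsPGroup 2 P) (hY : TransSol Y) {x : P}
    (hx : x * x = 1) : x ∈ Subgroup.center P := by
  by_cases hx1 : x = 1
  · simp [hx1]
  haveI : Nontrivial P := ⟨⟨x, 1, hx1⟩⟩
  haveI : Fact (Nat.Prime 2) := ⟨Nat.prime_two⟩
  haveI := hP.center_nontrivial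
  obtain ⟨⟨z, hz⟩, hz1⟩ := exists_ne (1 : Subgroup.center P)
  obtain ⟨j, hj1, hj⟩ := exists_involution_pow hP (x := z) fun h => hz1 (Subtype.ext h)
  obtain ⟨k, -, hk⟩ := hY.trans _ x hj1 hj hx1 hx
  rw [← hk]
  have hmem := Subgroup.pow_mem _ hz (2 ^ j)
  rw [Subgroup.mem_center_iff] at hmem ⊢
  intro g
  rw [← k.apply_symm_apply g, ← map_mul, hmem, map_mul]

/-- Roots of involutions inside a characteristic commutative subset of top exponent `2 ^ e`:
every element killed by `2 ^ (e - 1)` is a square there. -/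
theorem central_of_pow [Finite P] (hP : IsPGroup 2 P) (hY : TransSol Y) {e : ℕ} {z₀ : P}
    (hz₀ : z₀ ∈ Subgroup.center P) (he : z₀ ^ 2 ^ e ≠ 1) (he' : z₀ ^ 2 ^ (e + 1) = 1) :
    ∀ f ≤ e + 1, ∀ x : P, x ^ 2 ^ f = 1 → x ∈ Subgroup.center P := by
  intro f
  induction f with
  | zero => intro _ x hx; simp at hx; simp [hx]
  | succ f ih =>
    intro hf x hx
    by_cases h : x ^ 2 ^ f = 1
    · exact ih (by omega) x h
    have hsq : x ^ 2 ^ f * x ^ 2 ^ f = 1 := by rw [← pow_add, ← two_mul, ← pow_succ', hx]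
    obtain ⟨k, -, hk⟩ := hY.trans _ _ he (by rw [← pow_add, ← two_mul, ← pow_succ', he']) h hsq
    set z := k z₀ ^ 2 ^ (e - f) with hzdef
    have hzc : z ∈ Subgroup.center P := Subgroup.pow_mem _ (apply_center k hz₀) _
    have hzf : z ^ 2 ^ f = x ^ 2 ^ f := by
      rw [hzdef, ← pow_mul, ← pow_add, show e - f + f = e by omega, ← map_pow, hk]
    have hcomm : Commute x z⁻¹ := Subgroup.mem_center_iff.1 (Subgroup.inv_mem _ hzc) x
    have := ih (by omega) (x * z⁻¹) (by rw [hcomm.mul_pow, inv_pow, hzf, mul_inv_cancel])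
    simpa using Subgroup.mul_mem _ this hzc

theorem square_of_pow {A : Type*} [Group A] {L : Subgroup (MulAut A)}
    (hL : TransSol L) (hcomm : ∀ a b : A, a * b = b * a) {g : ℕ} {r₀ : A}
    (hg : r₀ ^ 2 ^ g ≠ 1) (hg' : r₀ ^ 2 ^ (g + 1) = 1) :
    ∀ f ≤ g, ∀ x : A, x ^ 2 ^ f = 1 → ∃ y, x = y * y := by
  intro f
  induction f with
  | zero => intro _ x hx; simp at hx; exact ⟨1, by simp [hx]⟩
  | succ f ih =>
    intro hf x hx
    by_cases h : x ^ 2 ^ f = 1
    · exact ih (by omega) x h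
    have hsq : x ^ 2 ^ f * x ^ 2 ^ f = 1 := by rw [← pow_add, ← two_mul, ← pow_succ', hx]
    obtain ⟨k, -, hk⟩ := hL.trans _ _ hg (by rw [← pow_add, ← two_mul, ← pow_succ', hg']) h hsq
    set r := k r₀ ^ 2 ^ (g - f - 1) with hrdef
    have hrf : (r * r) ^ 2 ^ f = x ^ 2 ^ f := by
      rw [hrdef, ← pow_add, ← two_mul, ← pow_succ', ← pow_mul, ← pow_add,
        show g - f - 1 + 1 + f = g by omega, ← map_pow, hk]
    obtain ⟨y, hy⟩ := ih (by omega) (x * (r * r)⁻¹) (by
      rw [Commute.mul_pow (hcomm _ _), inv_pow, hrf, mul_inv_cancel])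
    refine ⟨y * r, ?_⟩
    calc x = x * (r * r)⁻¹ * (r * r) := by group
      _ = y * (y * r) * r := by rw [hy]; group
      _ = _ := by rw [hcomm y (y * r)]; group

/-- The case of class at most two of Higman's lemma. -/
theorem comm_of_classTwo [Finite P] (hP : IsPGroup 2 P) (hY : TransSol Y) {e : ℕ} {z₀ : P}
    (hz₀ : z₀ ∈ Subgroup.center P) (he1 : 1 ≤ e) (he : z₀ ^ 2 ^ e ≠ 1)
    (he' : ∀ z ∈ Subgroup.center P, z ^ 2 ^ (e + 1) = 1)
    (hq : TransSol (Y.map (quotAut P))) (h2 : ∀ x y : P, ⁅x, y⁆ ∈ Subgroup.center P) :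
    ∀ x y : P, x * y = y * x := by
  classical
  have hc : ∀ {c : P}, c ∈ Subgroup.center P → ∀ g, g * c = c * g := fun h g =>
    Subgroup.mem_center_iff.1 h g
  have addl : ∀ x x' y : P, ⁅x * x', y⁆ = ⁅x, y⁆ * ⁅x', y⁆ := fun x x' y =>
    comm_elem_mul_left (h2 x' y)
  have addr : ∀ x y y' : P, ⁅x, y * y'⁆ = ⁅x, y⁆ * ⁅x, y'⁆ := fun x y y' => by
    rw [← commutatorElement_inv (y * y') x, addl, mul_inv_rev, commutatorElement_inv,
      commutatorElement_inv, hc (h2 x y)]
  have cpow : ∀ (n : ℕ) (x y : P), ⁅x ^ n, y⁆ = ⁅x, y⁆ ^ n := fun n x y => by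
    induction n with
    | zero => simp [commutatorElement_def]
    | succ n ih => rw [pow_succ, addl, ih, pow_succ]
  have cone : ∀ {z : P} (y : P), z ∈ Subgroup.center P → ⁅z, y⁆ = 1 := fun {z} y hz => by
    rw [commutatorElement_def, ← hc hz y]; group
  obtain ⟨n, hn⟩ := exists_pow_two_eq_one hP
  have hex : ∃ m, ∀ x y : P, ⁅x, y⁆ ^ 2 ^ m = 1 := ⟨n, fun x y => hn _⟩
  rcases Nat.eq_zero_or_pos (Nat.find hex) with hm0 | hm0
  · intro x y
    have := Nat.find_spec hex x y
    rw [hm0, pow_zero, pow_one] at this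
    exact commutatorElement_eq_one_iff_mul_comm.1 this
  exfalso
  obtain ⟨m, hm⟩ : ∃ m, Nat.find hex = m + 1 := ⟨Nat.find hex - 1, by omega⟩
  have hspec : ∀ x y : P, ⁅x, y⁆ ^ 2 ^ (m + 1) = 1 := hm ▸ Nat.find_spec hex
  obtain ⟨x₀, y₀, hxy⟩ : ∃ x y : P, ⁅x, y⁆ ^ 2 ^ m ≠ 1 := by
    have := Nat.find_min hex (show m < Nat.find hex by omega)
    push Not at this
    exact this
  set d : P → P → P := fun x y => ⁅x, y⁆ ^ 2 ^ m with hd
  have hA : ∀ a b : P ⧸ Subgroup.center P, a * b = b * a := fun a b => by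
    obtain ⟨b, rfl⟩ := QuotientGroup.mk_surjective b
    obtain ⟨a, rfl⟩ := QuotientGroup.mk_surjective a
    exact (Subgroup.mem_center_iff.1 (mk_mem_center_iff.2 (h2 a)) b).symm
  have hex' : ∃ g, ∀ a : P, a ^ 2 ^ g ∈ Subgroup.center P := ⟨n, fun a => by simp [hn a]⟩
  have hg0 : Nat.find hex' ≠ 0 := fun h => by
    have := Nat.find_spec hex' x₀
    rw [h, pow_zero, pow_one] at this
    exact hxy (by rw [cone y₀ this, one_pow])
  obtain ⟨g, hg⟩ : ∃ g, Nat.find hex' = g + 1 := ⟨Nat.find hex' - 1, by omega⟩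
  have hgspec : ∀ a : P, a ^ 2 ^ (g + 1) ∈ Subgroup.center P := hg ▸ Nat.find_spec hex'
  obtain ⟨r₀, hr₀⟩ : ∃ r : P, r ^ 2 ^ g ∉ Subgroup.center P := by
    have := Nat.find_min hex' (show g < Nat.find hex' by omega)
    push Not at this
    exact this
  set σ : P → P := fun a => (a ^ 2 ^ (g + 1)) ^ 2 ^ e with hσ
  have hexp : ∀ a b : P, ⁅a, b⁆ ^ 2 ^ (g + 1) = 1 := fun a b => by
    rw [← cpow, cone b (hgspec a)]
  have two : ∀ (k : ℕ) (a b : P), (a * b) ^ k = a ^ k * b ^ k * ⁅b, a⁆ ^ (k.choose 2) := by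
    intro k a b
    induction k with
    | zero => simp
    | succ k ih =>
      have hz : ⁅b, a⁆ ^ (k.choose 2) ∈ Subgroup.center P := Subgroup.pow_mem _ (h2 b a) _
      have hz' : ⁅b, a⁆ ^ k ∈ Subgroup.center P := Subgroup.pow_mem _ (h2 b a) _
      have h1 : b ^ k * a = a * b ^ k * ⁅b, a⁆ ^ k := by
        rw [← cpow, hc (h2 _ a), commutatorElement_def]; group
      rw [pow_succ (a * b), ih, Nat.choose_succ_succ', Nat.choose_one_right, pow_add]
      calc a ^ k * b ^ k * ⁅b, a⁆ ^ k.choose 2 * (a * b)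
          = a ^ k * (b ^ k * a) * b * ⁅b, a⁆ ^ k.choose 2 := by
            rw [mul_assoc (a ^ k * b ^ k), ← hc hz (a * b)]; group
        _ = a ^ k * a * b ^ k * (⁅b, a⁆ ^ k * b) * ⁅b, a⁆ ^ k.choose 2 := by rw [h1]; group
        _ = _ := by rw [← hc hz' b, pow_succ, pow_succ]; group
  have σmul : ∀ a b, σ (a * b) = σ a * σ b := fun a b => by
    simp only [hσ, ← pow_mul, ← pow_add]
    rw [two]
    suffices ⁅b, a⁆ ^ (2 ^ (g + 1 + e)).choose 2 = 1 by rw [this, mul_one]
    obtain ⟨c, hc'⟩ : 2 ^ (g + 1) ∣ (2 ^ (g + 1 + e)).choose 2 := by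
      rw [Nat.choose_two_right, show g + 1 + e = (g + 1) + (e - 1) + 1 by omega, pow_succ' 2 ((g + 1) + (e - 1)),
        mul_assoc, Nat.mul_div_cancel_left _ (by norm_num)]
      exact dvd_mul_of_dvd_left (Nat.pow_dvd_pow 2 (Nat.le_add_right _ _)) _
    rw [hc', pow_mul, hexp, one_pow]
  have σinv : ∀ a, σ a * σ a = 1 := fun a => by
    simp only [hσ]
    rw [← pow_add, ← two_mul, ← pow_succ', he' _ (hgspec a)]
  have σker : ∀ a, σ a = 1 → ∃ y z, z ∈ Subgroup.center P ∧ a = y * y * z := by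
    intro a ha
    have h1 : a ^ 2 ^ g ∈ Subgroup.center P := by
      refine central_of_pow hP hY hz₀ he (he' _ hz₀) (e + 1) le_rfl _ ?_
      rw [← pow_mul, ← pow_add, show g + (e + 1) = g + 1 + e by omega, pow_add, pow_mul]
      exact ha
    obtain ⟨y, hy⟩ := square_of_pow hq hA (r₀ := (r₀ : P ⧸ Subgroup.center P))
      (by rwa [← QuotientGroup.mk_pow, Ne, QuotientGroup.eq_one_iff])
      (by rw [← QuotientGroup.mk_pow, QuotientGroup.eq_one_iff]; exact hgspec r₀) g le_rfl a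
      (by rwa [← QuotientGroup.mk_pow, QuotientGroup.eq_one_iff])
    obtain ⟨y, rfl⟩ := QuotientGroup.mk_surjective y
    rw [← QuotientGroup.mk_mul] at hy
    exact ⟨y, (y * y)⁻¹ * a, QuotientGroup.eq.1 hy.symm, by group⟩
  have dmulL : ∀ a a' b, d (a * a') b = d a b * d a' b := fun a a' b => by
    simp only [hd]
    rw [addl, (show Commute ⁅a, b⁆ ⁅a', b⁆ from hc (h2 a' b) _).mul_pow]
  have dmulR : ∀ a b b', d a (b * b') = d a b * d a b' := fun a b b' => by
    simp only [hd]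
    rw [addr, (show Commute ⁅a, b⁆ ⁅a, b'⁆ from hc (h2 a b') _).mul_pow]
  have dinv : ∀ a b, d a b * d a b = 1 := fun a b => by
    simp only [hd]
    rw [← pow_add, ← two_mul, ← pow_succ', hspec]
  have dflip : ∀ a b, d b a = (d a b)⁻¹ := fun a b => by
    simp only [hd]
    rw [← commutatorElement_inv, inv_pow]
  have dker : ∀ a, σ a = 1 → ∀ b, d a b = 1 := by
    intro a ha b
    obtain ⟨y, z, hz, rfl⟩ := σker a ha
    rw [dmulL, dmulL, dinv, one_mul]
    simp [hd, cone b hz]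
  have dwd : ∀ a a', σ a = σ a' → ∀ b, d a b = d a' b := by
    intro a a' h b
    have h1 : σ (a⁻¹ * a') = 1 := by
      have h2 : σ a * σ (a⁻¹ * a') = σ a := by rw [← σmul, mul_inv_cancel_left, h]
      simpa using h2
    calc d a b = d a b * d (a⁻¹ * a') b := by rw [dker _ h1, mul_one]
      _ = _ := by rw [← dmulL, mul_inv_cancel_left]
  have dwd' : ∀ a a' b b', σ a = σ a' → σ b = σ b' → d a b = d a' b' := by
    intro a a' b b' h h'
    rw [dwd a a' h b, dflip b a', dwd b b' h' a', ← dflip b' a']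
  have σ1 : σ 1 = 1 := by simp [hσ]
  have σk : ∀ (k : MulAut P) a, σ (k a) = k (σ a) := fun k a => by simp [hσ]
  have σr₀ : σ r₀ ≠ 1 := fun h => by
    apply hr₀
    refine central_of_pow hP hY hz₀ he (he' _ hz₀) (e + 1) le_rfl _ ?_
    rw [← pow_mul, ← pow_add, show g + (e + 1) = g + 1 + e by omega, pow_add, pow_mul]
    exact h
  have hsurj : ∀ i : P, ∃ a, i * i = 1 → σ a = i := fun i => by
    by_cases hi : i ≠ 1 ∧ i * i = 1
    · obtain ⟨k, -, hk⟩ := hY.trans _ i σr₀ (σinv r₀) hi.1 hi.2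
      exact ⟨k r₀, fun _ => (σk k r₀).trans hk⟩
    · exact ⟨1, fun h => by
        have : i = 1 := by by_contra h'; exact hi ⟨h', h⟩
        rw [σ1, this]⟩
  choose s hs using hsurj
  have key := alternating_zero hY (fun a b ha _ => (hc (involution_central hP hY ha) b).symm)
    (fun i j => d (s i) (s j)) (fun i j _ _ => dinv _ _)
    (fun i i' j hi hi' hj => by
      rw [← dmulL]
      refine dwd' _ _ _ _ ?_ rfl
      rw [σmul, hs _ hi, hs _ hi', hs _ (by
        rw [show i * i' * (i * i') = i * (i' * i) * i' by group, hc (involution_central hP hY hi) i',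
          show i * (i * i') * i' = (i * i) * (i' * i') by group, hi, hi', mul_one])])
    (fun i j j' hi hj hj' => by
      rw [← dmulR]
      refine dwd' _ _ _ _ rfl ?_
      rw [σmul, hs _ hj, hs _ hj', hs _ (by
        rw [show j * j' * (j * j') = j * (j' * j) * j' by group, hc (involution_central hP hY hj) j',
          show j * (j * j') * j' = (j * j) * (j' * j') by group, hj, hj', mul_one])])
    (fun i _ => by simp [hd, commutatorElement_def])
    (fun k _ i j hi hj => by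
      simp only [hd, map_pow, map_commutatorElement]
      exact dwd' _ _ _ _ (by rw [σk, hs _ hi, hs _ (by rw [← map_mul, hi, map_one])])
        (by rw [σk, hs _ hj, hs _ (by rw [← map_mul, hj, map_one])]))
    (σinv x₀) (σinv y₀)
  rw [dwd' _ x₀ _ y₀ (hs _ (σinv x₀)) (hs _ (σinv y₀))] at key
  exact hxy key

/-- Lifts of involutions of the central quotient are permuted transitively. -/
theorem quot_trans [Finite P] (hP : IsPGroup 2 P) (hY : TransSol Y) {e : ℕ} {z₀ : P}
    (hz₀ : z₀ ∈ Subgroup.center P) (he1 : 1 ≤ e) (he : z₀ ^ 2 ^ e ≠ 1)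
    (he' : ∀ z ∈ Subgroup.center P, z ^ 2 ^ (e + 1) = 1) :
    TransSol (Y.map (quotAut P)) := by
  constructor
  · haveI := hY.solv
    exact solvable_of_surjective ((quotAut P).subgroupMap_surjective Y)
  intro x y hx1 hx hy1 hy
  haveI : Nontrivial (P ⧸ Subgroup.center P) := ⟨⟨x, 1, hx1⟩⟩
  haveI : Fact (Nat.Prime 2) := ⟨Nat.prime_two⟩
  have hPQ : IsPGroup 2 (P ⧸ Subgroup.center P) := hP.to_quotient _
  haveI := hPQ.center_nontrivial
  obtain ⟨⟨u, hu⟩, hu1⟩ := exists_ne (1 : Subgroup.center (P ⧸ Subgroup.center P))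
  obtain ⟨j, hj1, hj⟩ := exists_involution_pow hPQ (x := u) fun h => hu1 (Subtype.ext h)
  obtain ⟨w, hw⟩ := QuotientGroup.mk_surjective (u ^ 2 ^ j)
  rw [← hw] at hj1 hj
  have hwc := mk_mem_center_iff.1 (hw ▸ Subgroup.pow_mem _ hu (2 ^ j))
  rw [Ne, QuotientGroup.eq_one_iff] at hj1
  rw [← QuotientGroup.mk_mul, QuotientGroup.eq_one_iff] at hj
  have inv_ω : ∀ a : P, a * a ∈ Subgroup.center P →
      (a * a) ^ 2 ^ e * (a * a) ^ 2 ^ e = 1 := fun a ha => by
    rw [← pow_add, ← two_mul, ← pow_succ', he' _ ha]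
  have ne_ω : ∀ a : P, a ∉ Subgroup.center P → (a * a) ^ 2 ^ e ≠ 1 := fun a ha h => ha (by
    refine central_of_pow hP hY hz₀ he (he' _ hz₀) (e + 1) le_rfl a ?_
    rwa [← sq, ← pow_mul, ← pow_succ'] at h)
  have main : ∀ z : P ⧸ Subgroup.center P, z ≠ 1 → z * z = 1 →
      ∃ k ∈ Y, quotAut P k (w : P ⧸ Subgroup.center P) = z := by
    intro z hz1 hz
    obtain ⟨a, rfl⟩ := QuotientGroup.mk_surjective z
    rw [Ne, QuotientGroup.eq_one_iff] at hz1
    rw [← QuotientGroup.mk_mul, QuotientGroup.eq_one_iff] at hz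
    obtain ⟨k, hk, hkw⟩ := hY.trans _ _ (ne_ω w hj1) (inv_ω w hj) (ne_ω a hz1) (inv_ω a hz)
    refine ⟨k, hk, ?_⟩
    rw [quotAut_mk, QuotientGroup.eq]
    set b := (k w)⁻¹ with hb
    have hb2 : b * b ∈ Subgroup.center P := by
      rw [hb, ← mul_inv_rev, ← map_mul]; exact Subgroup.inv_mem _ (apply_center k hj)
    have hbc : ∀ v, ⁅b, v⁆ ∈ Subgroup.center P := by
      refine mk_mem_center_iff.1 ?_
      rw [hb, QuotientGroup.mk_inv]
      refine Subgroup.inv_mem _ (mk_mem_center_iff.2 fun v => ?_)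
      have := apply_center k (hwc (k⁻¹ v))
      rwa [map_commutatorElement, show k (k⁻¹ v) = v from k.apply_symm_apply v] at this
    have hc2 := comm_sq (hbc a) hb2
    have hcc := hbc a
    refine central_of_pow hP hY hz₀ he (he' _ hz₀) (e + 1) le_rfl (b * a) ?_
    rw [pow_succ', pow_mul, sq]
    have e1 : b * a * (b * a) = ⁅b, a⁆⁻¹ * (b * b) * (a * a) := by
      have h1 := Subgroup.mem_center_iff.1 (Subgroup.inv_mem _ hcc) b
      calc b * a * (b * a) = b * (⁅b, a⁆⁻¹ * b * a) * a := by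
            simp only [commutatorElement_def]; group
        _ = (b * ⁅b, a⁆⁻¹) * (b * (a * a)) := by group
        _ = _ := by rw [h1]; group
    rw [e1]
    have hc1 : ∀ {p q : P}, p ∈ Subgroup.center P → Commute p q := fun {p q} h =>
      (Subgroup.mem_center_iff.1 h q).symm
    rw [(hc1 (Subgroup.mul_mem _ (Subgroup.inv_mem _ hcc) hb2)).mul_pow,
      (hc1 (Subgroup.inv_mem _ hcc)).mul_pow, inv_pow,
      show e = (e - 1) + 1 by omega, pow_succ' 2 (e - 1), pow_mul ⁅b, a⁆, sq, hc2, one_pow, inv_one,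
      one_mul, ← pow_succ' 2 (e - 1), ← show e = (e - 1) + 1 by omega, ← hkw, hb, ← mul_inv_rev,
      ← map_mul, inv_pow, map_pow, inv_mul_cancel]
  obtain ⟨k, hk, rfl⟩ := main x hx1 hx
  obtain ⟨l, hl, rfl⟩ := main y hy1 hy
  refine ⟨quotAut P (l * k⁻¹), Subgroup.mem_map_of_mem _ (Y.mul_mem hl (Y.inv_mem hk)), ?_⟩
  rw [← MulAut.mul_apply, ← map_mul, inv_mul_cancel_right]

universe u

private theorem higman_aux : ∀ n : ℕ, ∀ (P : Type u) [Group P] [Finite P] (Y : Subgroup (MulAut P)),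
    Nat.card P = n → IsPGroup 2 P → TransSol Y → (∃ z ∈ Subgroup.center P, z * z ≠ 1) →
    ∀ x y : P, x * y = y * x := by
  classical
  intro n
  induction n using Nat.strong_induction_on with
  | _ n ih =>
    intro P _ _ Y hn hP hY hex
    obtain ⟨z, hzc, hz2⟩ := hex
    haveI : Fact (Nat.Prime 2) := ⟨Nat.prime_two⟩
    obtain ⟨N, hN⟩ := exists_pow_two_eq_one hP
    have hexE : ∃ m, ∀ z ∈ Subgroup.center P, z ^ 2 ^ m = 1 := ⟨N, fun z _ => hN z⟩
    have h2le : 2 ≤ Nat.find hexE := by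
      by_contra h
      have hs := Nat.find_spec hexE z hzc
      obtain h | h : Nat.find hexE = 0 ∨ Nat.find hexE = 1 := by omega
      · rw [h, pow_zero, pow_one] at hs; exact hz2 (by simp [hs])
      · rw [h, pow_one, sq] at hs; exact hz2 hs
    obtain ⟨e, he⟩ : ∃ e, Nat.find hexE = e + 1 := ⟨Nat.find hexE - 1, by omega⟩
    have he' : ∀ z ∈ Subgroup.center P, z ^ 2 ^ (e + 1) = 1 := he ▸ Nat.find_spec hexE
    obtain ⟨z₀, hz₀, hz₀e⟩ : ∃ z ∈ Subgroup.center P, z ^ 2 ^ e ≠ 1 := by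
      have := Nat.find_min hexE (show e < Nat.find hexE by omega)
      push Not at this
      exact this
    have he1 : 1 ≤ e := by omega
    have hq := quot_trans hP hY hz₀ he1 hz₀e he'
    by_cases hc2 : ∀ x y : P, ⁅x, y⁆ ∈ Subgroup.center P
    · exact comm_of_classTwo hP hY hz₀ he1 hz₀e he' hq hc2
    exfalso
    let Q := P ⧸ Subgroup.center P
    have hPQ : IsPGroup 2 Q := hP.to_quotient _
    have hnc : ¬ ∀ x y : Q, x * y = y * x := fun h => hc2 fun x =>
      mk_mem_center_iff.1 (Subgroup.mem_center_iff.2 fun y => h y _)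
    have hel : ∀ q ∈ Subgroup.center Q, q * q = 1 := by
      by_contra h
      push Not at h
      refine hnc (ih (Nat.card Q) ?_ Q _ rfl hPQ hq h)
      rw [← hn, Subgroup.card_eq_card_quotient_mul_card_subgroup (Subgroup.center P)]
      refine lt_mul_of_one_lt_right Nat.card_pos ?_
      rw [← Subgroup.index_bot]
      haveI : Nontrivial (Subgroup.center P) := ⟨⟨⟨z, hzc⟩, 1, fun h => hz2 (by simp [Subtype.ext_iff] at h; simp [h])⟩⟩
      simpa using Finite.one_lt_card (α := Subgroup.center P)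
    haveI : Nontrivial (Q ⧸ Subgroup.center Q) := by
      rw [← not_subsingleton_iff_nontrivial]
      intro h
      refine hnc fun x y => (Subgroup.mem_center_iff.1 ?_ x)
      rw [← QuotientGroup.eq_one_iff]
      exact Subsingleton.elim _ _
    haveI := (hPQ.to_quotient (Subgroup.center Q)).center_nontrivial
    obtain ⟨⟨qq, hqq⟩, hqq1⟩ := exists_ne (1 : Subgroup.center (Q ⧸ Subgroup.center Q))
    obtain ⟨q, rfl⟩ := QuotientGroup.mk_surjective qq
    obtain ⟨y, rfl⟩ := QuotientGroup.mk_surjective q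
    have hy1 : (y : Q) ∉ Subgroup.center Q := fun h => hqq1 (Subtype.ext ((QuotientGroup.eq_one_iff _).2 h))
    have hy2 : ∀ x : P, ((⁅y, x⁆ : P) : Q) ∈ Subgroup.center Q := fun x => by
      have := mk_mem_center_iff.1 hqq ((x : P) : Q)
      exact this
    have hsq : ∀ {v : P}, (v : Q) ∈ Subgroup.center Q → v * v ∈ Subgroup.center P := fun {v} hv =>
      (QuotientGroup.eq_one_iff _).1 (hel _ hv)
    have hmulcc : ∀ x : P, ⁅y * y, x⁆ = ⁅y, ⁅y, x⁆⁆ * (⁅y, x⁆ * ⁅y, x⁆) := fun x => by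
      simp only [commutatorElement_def]; group
      done
    have hyc : ∀ x : P, ⁅y, ⁅y, x⁆⁆ ∈ Subgroup.center P := fun x => by
      rw [← commutatorElement_inv]
      exact Subgroup.inv_mem _ (mk_mem_center_iff.1 (hy2 x) y)
    have hyy : ((y * y : P) : Q) ∈ Subgroup.center Q := mk_mem_center_iff.2 fun x => by
      rw [hmulcc]
      exact Subgroup.mul_mem _ (hyc x) (hsq (hy2 x))
    refine hy1 (mk_mem_center_iff.2 fun x => ?_)
    set c := ⁅y, x⁆ with hc
    have h1 : ⁅y * y, x⁆ * ⁅y * y, x⁆ = 1 := comm_sq (mk_mem_center_iff.1 hyy x) (hsq hyy)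
    have h2 : ⁅y, c⁆ * ⁅y, c⁆ = 1 := by
      have := comm_sq (mk_mem_center_iff.1 (hy2 x) y) (hsq (hy2 x))
      rw [← commutatorElement_inv, ← mul_inv_rev, this, inv_one]
    have h4 : c * c * (c * c) = 1 := by
      have e1 : c * c = ⁅y, c⁆ * ⁅y * y, x⁆ := by
        rw [hmulcc x, ← hc, ← mul_assoc, h2, one_mul]
      rw [e1, mul_assoc, ← mul_assoc ⁅y * y, x⁆, Subgroup.mem_center_iff.1 (hyc x) ⁅y * y, x⁆,
        mul_assoc, h1, mul_one, h2]
    refine central_of_pow hP hY hz₀ hz₀e (he' _ hz₀) 2 (by omega) c ?_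
    rw [show (2 : ℕ) ^ 2 = 2 + 2 by norm_num, pow_add, sq]
    exact h4

/-- Higman's lemma: if the centre has exponent larger than two then the group is commutative. -/
theorem higman {P : Type u} [Group P] [Finite P] {Y : Subgroup (MulAut P)} (hP : IsPGroup 2 P)
    (hY : TransSol Y) {z : P} (hz : z ∈ Subgroup.center P) (hz2 : z * z ≠ 1) :
    ∀ x y : P, x * y = y * x :=
  higman_aux _ P Y rfl hP hY ⟨z, hz, hz2⟩

theorem center_sq_eq_one {P : Type u} [Group P] [Finite P] {Y : Subgroup (MulAut P)}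
    (hP : IsPGroup 2 P) (hY : TransSol Y) (hnc : ∃ x y : P, x * y ≠ y * x) {z : P}
    (hz : z ∈ Subgroup.center P) : z * z = 1 := by
  by_contra h
  obtain ⟨x, y, hxy⟩ := hnc
  exact hxy (higman hP hY hz h x y)

end Cfsg.Agent.Lib.SuzukiSol
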