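import Mathlib

/-!
# Congruences between sums of two powers of two

If `d` divides `n` and `2 ^ n - 1 = M * d`, then a congruence `2 ^ a + 2 ^ b ≡ 2 ^ c + 2 ^ e`
modulo `M` holds modulo `2 ^ n - 1`, unless `(n, d) = (6, 3)`: rotating the exponents puts both
sides below `M`.
-/

set_option autoImplicit false

namespace Cfsg.Agent.Lib.SuzukiSol

theorem two_pow_mod (n b : ℕ) : (2 : ℕ) ^ b ≡ 2 ^ (b % n) [MOD 2 ^ n - 1] := by
  conv_lhs => rw [← Nat.mod_add_div b n, pow_add, pow_mul]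
  have h : (2 : ℕ) ^ n ≡ 1 [MOD 2 ^ n - 1] :=
    Nat.ModEq.symm ((Nat.modEq_iff_dvd' Nat.one_le_two_pow).2 dvd_rfl)
  simpa using (h.pow (b / n)).mul_left (2 ^ (b % n))

theorem small_cases {n d : ℕ} (hn : n < 24) (hd : d ≤ n) (hdn : d ∣ n)
    (h : (2 ^ n - 1) % d = 0) : d ≤ 1 ∨ (n = 6 ∧ d = 3) ∨ d < 2 ^ ((n - 1) / 4) := by
  have key : ∀ n : Fin 24, ∀ d : Fin 24, d.val ≤ n.val → n.val % d.val = 0 → (2 ^ n.val - 1) % d.val = 0 →
      d.val ≤ 1 ∨ (n.val = 6 ∧ d.val = 3) ∨ d.val < 2 ^ ((n.val - 1) / 4) := by decide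
  exact key ⟨n, hn⟩ ⟨d, by omega⟩ hd (Nat.mod_eq_zero_of_dvd hdn) h

theorem lt_pow_quarter {n : ℕ} (hn : 24 ≤ n) : n < 2 ^ ((n - 1) / 4) := by
  have h : ∀ k, 5 ≤ k → 4 * k + 5 ≤ 2 ^ k := by
    intro k hk
    induction k, hk using Nat.le_induction with
    | base => norm_num
    | succ k hk ih => rw [pow_succ]; omega
  have := h ((n - 1) / 4) (by omega)
  omega

theorem exists_rotation {n L : ℕ} (hL : 4 * L < n) (x : Fin 4 → ℕ) :
    ∃ r < n, ∀ i, (x i + r) % n + L < n := by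
  classical
  let bad : Finset ℕ := Finset.univ.biUnion fun i =>
    (Finset.range L).image fun j => (n - 1 - j + (n - x i % n)) % n
  have hcard : bad.card ≤ 4 * L := by
    refine le_trans Finset.card_biUnion_le ?_
    refine le_trans (Finset.sum_le_card_nsmul _ _ L fun i _ => ?_) (by simp)
    exact le_trans Finset.card_image_le (by simp)
  obtain ⟨r, hr, hbad⟩ := Finset.exists_mem_notMem_of_card_lt_card
    (s := bad) (t := Finset.range n) (by rw [Finset.card_range]; omega)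
  rw [Finset.mem_range] at hr
  refine ⟨r, hr, fun i => ?_⟩
  by_contra hge
  rw [not_lt] at hge
  have hu : (x i + r) % n < n := Nat.mod_lt _ (by omega)
  refine hbad (Finset.mem_biUnion.2 ⟨i, Finset.mem_univ _, Finset.mem_image.2
    ⟨n - 1 - (x i + r) % n, Finset.mem_range.2 (by omega), ?_⟩⟩)
  have hxn : x i % n < n := Nat.mod_lt _ (by omega)
  rw [show n - 1 - (n - 1 - (x i + r) % n) = (x i + r) % n by omega, Nat.mod_add_mod,
    show x i + r + (n - x i % n) = r + n + (x i - x i % n) by have := Nat.mod_le (x i) n; omega,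
    show x i - x i % n = n * (x i / n) by have := Nat.mod_add_div (x i) n; omega,
    Nat.add_mul_mod_self_left, Nat.add_mod_right, Nat.mod_eq_of_lt hr]

theorem congr_lift {n d M a b c e : ℕ} (hn : 0 < n) (hM : M * d = 2 ^ n - 1) (hd : d ∣ n)
    (h6 : ¬ (n = 6 ∧ d = 3)) (h : 2 ^ a + 2 ^ b ≡ 2 ^ c + 2 ^ e [MOD M]) :
    2 ^ a + 2 ^ b ≡ 2 ^ c + 2 ^ e [MOD 2 ^ n - 1] := by
  have hq : 2 ≤ 2 ^ n := Nat.le_self_pow hn.ne' 2
  have hd0 : 0 < d := Nat.pos_of_ne_zero fun h0 => by rw [h0, mul_zero] at hM; omega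
  by_cases hd1 : d ≤ 1
  · rwa [← hM, show d = 1 by omega, mul_one]
  have hlt : d < 2 ^ ((n - 1) / 4) := by
    by_cases h24 : n < 24
    · rcases small_cases h24 (Nat.le_of_dvd hn hd) hd
        (Nat.mod_eq_zero_of_dvd (Dvd.intro_left M hM) |>.trans rfl) with h' | h' | h'
      · exact absurd h' hd1
      · exact absurd h' h6
      · exact h'
    · exact lt_of_le_of_lt (Nat.le_of_dvd hn hd) (lt_pow_quarter (by omega))
  set L := (n - 1) / 4 with hL
  obtain ⟨r, -, hr⟩ := exists_rotation (n := n) (L := L) (by omega) ![a, b, c, e]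
  have hM' : M ∣ 2 ^ n - 1 := Dvd.intro d hM
  have hrot : ∀ x, 2 ^ r * 2 ^ x ≡ 2 ^ ((x + r) % n) [MOD 2 ^ n - 1] := fun x => by
    rw [← pow_add, add_comm r x]; exact two_pow_mod n _
  have hs : ∀ x y, 2 ^ r * (2 ^ x + 2 ^ y) ≡ 2 ^ ((x + r) % n) + 2 ^ ((y + r) % n)
      [MOD 2 ^ n - 1] := fun x y => by rw [mul_add]; exact (hrot x).add (hrot y)
  have hbound : ∀ u v, u + L < n → v + L < n → 2 ^ u + 2 ^ v ≤ 2 ^ (n - L) := fun u v hu hv => by
    have h1 := Nat.pow_le_pow_right (show 0 < 2 by norm_num) (show u ≤ n - L - 1 by omega)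
    have h2 := Nat.pow_le_pow_right (show 0 < 2 by norm_num) (show v ≤ n - L - 1 by omega)
    rw [show n - L = n - L - 1 + 1 by omega, pow_succ]
    omega
  have hMbig : 2 ^ (n - L) - 1 ≤ M := by
    by_contra hlt'
    have h1 : (M + 1) * d ≤ (2 ^ (n - L) - 1) * d := Nat.mul_le_mul_right d (by omega)
    have h2 : 2 ^ (n - L) * (d + 1) ≤ 2 ^ (n - L) * 2 ^ L := Nat.mul_le_mul_left _ hlt
    rw [← pow_add, show n - L + L = n by omega, mul_add, mul_one] at h2
    rw [add_mul, one_mul, Nat.sub_mul, one_mul] at h1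
    have := Nat.one_le_two_pow (n := n - L)
    omega
  have key : (2 ^ ((a + r) % n) + 2 ^ ((b + r) % n) : ℕ) =
      2 ^ ((c + r) % n) + 2 ^ ((e + r) % n) := by
    have hmod := (((hs a b).of_dvd hM').symm.trans (h.mul_left (2 ^ r))).trans ((hs c e).of_dvd hM')
    have b1 := hbound _ _ (hr 0) (hr 1)
    have b2 := hbound _ _ (hr 2) (hr 3)
    simp only [Matrix.cons_val_zero, Matrix.cons_val_one] at b1
    simp only [Matrix.cons_val] at b2
    have p1 : ∀ k : ℕ, 1 ≤ 2 ^ k := fun k => Nat.one_le_two_pow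
    have := p1 ((a + r) % n); have := p1 ((b + r) % n)
    have := p1 ((c + r) % n); have := p1 ((e + r) % n)
    refine Nat.ModEq.eq_of_abs_lt hmod ?_
    rw [abs_lt]
    omega
  have h2 : 2 ^ r * (2 ^ a + 2 ^ b) ≡ 2 ^ r * (2 ^ c + 2 ^ e) [MOD 2 ^ n - 1] :=
    (hs a b).trans (key ▸ (hs c e).symm)
  refine Nat.ModEq.cancel_left_of_coprime ?_ h2
  show Nat.Coprime (2 ^ n - 1) (2 ^ r)
  rw [Nat.coprime_comm]
  refine Nat.Coprime.pow_left _ ((Nat.Prime.coprime_iff_not_dvd Nat.prime_two).2 fun h2' => ?_)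
  have : 2 ∣ 2 ^ n := dvd_pow_self 2 hn.ne'
  omega

end Cfsg.Agent.Lib.SuzukiSol
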