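import Cfsg.Agent.Lib.SuzukiSol.Scalars
import Cfsg.Agent.Lib.Spectrum.HuppertArith

/-!
# Coordinates on the involutions of a group with a solvable group of automorphisms transitive on them
-/

set_option autoImplicit false
set_option linter.unusedSectionVars false
set_option linter.style.haveILetI false

namespace Cfsg.Agent.Lib.SuzukiSol

open Cfsg.Agent.Lib.Spectrum

/-- `Y` is solvable and transitive on the elements of order two. -/
structure TransSol {P : Type*} [Group P] (Y : Subgroup (MulAut P)) : Prop where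
  solv : Group.IsSolvable Y
  trans : ∀ x y : P, x ≠ 1 → x * x = 1 → y ≠ 1 → y * y = 1 → ∃ k ∈ Y, k x = y

/-- A bijection of the elements killed by two with a field, on which part of `Y` acts as the
multipliers `M`. -/
structure Coord {P : Type*} [Group P] (Y : Subgroup (MulAut P)) {F : Type} [Field F] (ι : P → F)
    (M : Subgroup Fˣ) : Prop where
  mul : ∀ x y, x * x = 1 → y * y = 1 → ι (x * y) = ι x + ι y
  inj : ∀ x y, x * x = 1 → y * y = 1 → ι x = ι y → x = y
  surj : ∀ t : F, ∃ x, x * x = 1 ∧ ι x = t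
  one : ι 1 = 0
  scal : Scalars M
  lift : ∀ m ∈ M, ∃ k ∈ Y, ∀ x, x * x = 1 → ι (k x) = (m : F) * ι x

variable {P : Type*} [Group P] [Finite P] {Y : Subgroup (MulAut P)}

theorem TransSol.exists_coord (hY : TransSol Y)
    (hcen : ∀ x y : P, x * x = 1 → y * y = 1 → x * y = y * x) {i₀ : P} (hi₀ : i₀ ≠ 1)
    (hi₀2 : i₀ * i₀ = 1) :
    ∃ (F : Type) (_ : Field F) (_ : Fintype F) (_ : CharP F 2) (ι : P → F) (M : Subgroup Fˣ),
      Coord Y ι M ∧ ι i₀ = 1 := by
  classical
  haveI : Fact (Nat.Prime 2) := ⟨Nat.prime_two⟩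
  let Ω : Subgroup P :=
    { carrier := {x | x * x = 1}
      one_mem' := one_mul 1
      mul_mem' := fun {a b} ha hb => by
        show a * b * (a * b) = 1
        calc a * b * (a * b) = a * (b * a) * b := by group
          _ = (a * a) * (b * b) := by rw [← hcen a b ha hb]; group
          _ = 1 := by rw [show a * a = 1 from ha, show b * b = 1 from hb, mul_one]
      inv_mem' := fun {a} ha => by
        show a⁻¹ * a⁻¹ = 1
        rw [← mul_inv_rev, show a * a = 1 from ha, inv_one] }
  have hΩ : ∀ x, x ∈ Ω ↔ x * x = 1 := fun _ => Iff.rfl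
  have hk : ∀ (k : MulAut P) {x : P}, x ∈ Ω → k x ∈ Ω := fun k x hx => by
    rw [hΩ, ← map_mul, show x * x = 1 from hx, map_one]
  letI : CommGroup Ω :=
    { (inferInstance : Group Ω) with mul_comm := fun a b => Subtype.ext (hcen a b a.2 b.2) }
  letI : Module (ZMod 2) (Additive Ω) := AddCommGroup.zmodModule (n := 2) fun v => by
    rw [two_nsmul]
    exact Additive.toMul.injective (Subtype.ext v.toMul.2)
  let toL : MulAut P → (Additive Ω ≃ₗ[ZMod 2] Additive Ω) := fun k =>
    { toFun := fun v => Additive.ofMul ⟨k v.toMul.1, hk k v.toMul.2⟩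
      invFun := fun v => Additive.ofMul ⟨k⁻¹ v.toMul.1, hk k⁻¹ v.toMul.2⟩
      left_inv := fun v => Additive.toMul.injective (Subtype.ext (k.symm_apply_apply _))
      right_inv := fun v => Additive.toMul.injective (Subtype.ext (k.apply_symm_apply _))
      map_add' := fun v w => Additive.toMul.injective (Subtype.ext (map_mul k v.toMul.1 w.toMul.1))
      map_smul' := fun c v => ZMod.map_smul (AddMonoidHom.mk'
        (fun v : Additive Ω => Additive.ofMul (⟨k v.toMul.1, hk k v.toMul.2⟩ : Ω))
        (fun v w => Additive.toMul.injective (Subtype.ext (map_mul k v.toMul.1 w.toMul.1)))) c v }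
  let res : Y →* (Additive Ω ≃ₗ[ZMod 2] Additive Ω) :=
    { toFun := fun k => toL k
      map_one' := LinearEquiv.ext fun v => Additive.toMul.injective (Subtype.ext rfl)
      map_mul' := fun k l => LinearEquiv.ext fun v => Additive.toMul.injective (Subtype.ext rfl) }
  haveI : Finite (Additive Ω ≃ₗ[ZMod 2] Additive Ω) :=
    Finite.of_injective (fun f => (f : Additive Ω → Additive Ω)) DFunLike.coe_injective
  haveI : Nontrivial (Additive Ω) :=
    ⟨⟨Additive.ofMul ⟨i₀, hi₀2⟩, 0, fun h => hi₀ (congrArg Subtype.val (congrArg Additive.toMul h))⟩⟩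
  let ρ : res.range →* (Additive Ω ≃ₗ[ZMod 2] Additive Ω) := res.range.subtype
  have hsol : Group.IsSolvable res.range :=
    haveI := hY.solv
    solvable_of_surjective (f := res.rangeRestrict) res.rangeRestrict_surjective
  have htrans : ∀ v w : Additive Ω, v ≠ 0 → w ≠ 0 → ∃ g : res.range, ρ g v = w := by
    intro v w hv hw
    obtain ⟨k, hk', hkv⟩ := hY.trans v.toMul.1 w.toMul.1
      (fun h => hv (Additive.toMul.injective (Subtype.ext h))) v.toMul.2
      (fun h => hw (Additive.toMul.injective (Subtype.ext h))) w.toMul.2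
    exact ⟨⟨res ⟨k, hk'⟩, _, rfl⟩, Additive.toMul.injective (Subtype.ext hkv)⟩
  obtain ⟨m₀, hm₀⟩ : ∃ m, Nat.card (Additive Ω) = 2 ^ m := by
    have hp : IsPGroup 2 Ω := fun x => ⟨1, Subtype.ext (by
      rw [pow_one, Subgroup.coe_pow, sq, Subgroup.coe_one]; exact x.2)⟩
    obtain ⟨m, hm⟩ := IsPGroup.iff_card.1 hp
    exact ⟨m, hm⟩
  have hsemi : Huppert.IsSemilinear ρ := by
    refine (Huppert.dichotomy ρ hsol Subtype.val_injective htrans).resolve_right ?_
    rintro ⟨m, d, A, B, C, hF⟩
    have h := hF.card_mem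
    rw [hm₀] at h
    simp only [Set.mem_insert_iff, Set.mem_singleton_iff] at h
    rcases m₀ with _ | m₀
    · simp at h
    · rw [pow_succ] at h; omega
  obtain ⟨F, _, _, e, he⟩ := hsemi
  have hchar : CharP F 2 := by
    refine (CharP.charP_iff_prime_eq_zero Nat.prime_two).2 ?_
    obtain ⟨v, hv⟩ := e.surjective 1
    have h2 : v + v = 0 := Additive.toMul.injective (Subtype.ext v.toMul.2)
    have := congrArg e h2
    rw [map_add, hv, map_zero, one_add_one_eq_two] at this
    exact_mod_cast this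
  haveI := hchar
  -- normalise the coordinates at `i₀`
  set v₀ : Additive Ω := Additive.ofMul ⟨i₀, hi₀2⟩ with hv₀
  set c := e v₀ with hc
  have hc0 : c ≠ 0 := fun h => hi₀
    (congrArg Subtype.val (congrArg Additive.toMul (e.map_eq_zero_iff.1 h : v₀ = 0)))
  choose a σ haσ using he
  have a0 : ∀ g, a g ≠ 0 := fun g h => by
    obtain ⟨v, hv⟩ := exists_ne (0 : Additive Ω)
    have := haσ g v
    rw [h, zero_mul, EmbeddingLike.map_eq_zero_iff] at this
    exact hv ((ρ g).map_eq_zero_iff.1 this)
  have σhom : ∀ g h : res.range, σ (g * h) = σ g * σ h := by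
    intro g h
    have key : ∀ x : F, a (g * h) * σ (g * h) x = a g * σ g (a h) * σ g (σ h x) := by
      intro x
      obtain ⟨v, rfl⟩ := e.surjective x
      rw [← haσ, map_mul ρ, LinearEquiv.mul_apply, haσ, haσ, map_mul]
      ring
    have h1 := key 1
    rw [map_one, map_one, map_one, mul_one, mul_one] at h1
    refine RingEquiv.ext fun x => ?_
    have h2 := key x
    rw [← h1] at h2
    exact mul_left_cancel₀ (a0 _) h2
  haveI : Finite (F ≃+* F) := Finite.of_injective (fun f => (f : F → F)) DFunLike.coe_injective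
  let ψ : res.range →* (F ≃+* F) := MonoidHom.mk' σ σhom
  let f : ψ.ker →* Fˣ :=
    { toFun := fun g => Units.mk0 (a g.1) (a0 _)
      map_one' := by
        refine Units.ext (?_ : a 1 = 1)
        have := haσ 1 v₀
        rw [show ρ 1 v₀ = v₀ from rfl, ← hc,
          show σ 1 = 1 from map_one ψ] at this
        exact (mul_eq_right₀ hc0).1 this.symm
      map_mul' := fun g h => by
        refine Units.ext (?_ : a (g.1 * h.1) = a g.1 * a h.1)
        have := haσ (g.1 * h.1) v₀
        rw [map_mul ρ, LinearEquiv.mul_apply, haσ, haσ, show σ g.1 = 1 from g.2,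
          show σ h.1 = 1 from h.2, show σ (g.1 * h.1) = 1 from (g * h).2] at this
        simp only [RingAut.one_apply, ← hc, ← mul_assoc] at this
        exact mul_right_cancel₀ hc0 this.symm }
  have hfi : Function.Injective f := by
    intro g h hgh
    refine Subtype.ext (Subtype.ext (LinearEquiv.ext fun v => e.injective ?_))
    show e (ρ g.1 v) = e (ρ h.1 v)
    rw [haσ, haσ, show σ g.1 = 1 from g.2, show σ h.1 = 1 from h.2,
      show a g.1 = a h.1 from congrArg Units.val hgh]
  obtain ⟨n, -, hn⟩ := FiniteField.card F 2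
  have hidx : f.range.index ∣ (n : ℕ) := by
    have horb := Huppert.orbit_dvd ρ htrans
    rw [Nat.card_congr e.toEquiv, Nat.card_eq_fintype_card, hn] at horb
    have h1 : f.range.index * Nat.card f.range = 2 ^ (n : ℕ) - 1 := by
      rw [Subgroup.index_mul_card, Nat.card_units, Nat.card_eq_fintype_card, hn]
    have h2 : Nat.card f.range = Nat.card ψ.ker :=
      (Nat.card_congr (MonoidHom.ofInjective hfi).toEquiv).symm
    have h3 := Subgroup.card_mul_index ψ.ker
    rw [← h3, ← h1, h2, mul_comm (Nat.card ψ.ker)] at horb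
    refine dvd_trans (Nat.dvd_of_mul_dvd_mul_right Nat.card_pos horb) ?_
    rw [Subgroup.index_ker]
    refine dvd_trans (Subgroup.card_subgroup_dvd_card _) (dvd_of_eq ?_)
    letI : Algebra (ZMod 2) F := ZMod.algebra F 2
    rw [Nat.card_congr (RankOne.AutSpan.autEquiv 2), IsGalois.card_aut_eq_finrank]
    refine Nat.pow_right_injective le_rfl (Eq.trans ?_ hn)
    rw [Module.card_eq_pow_finrank (K := ZMod 2), ZMod.card]
  let ι : P → F := fun x => if h : x * x = 1 then e (Additive.ofMul ⟨x, h⟩) / c else 0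
  have hι : ∀ (x : P) (h : x * x = 1), ι x = e (Additive.ofMul ⟨x, h⟩) / c := fun x h => dif_pos h
  refine ⟨F, inferInstance, inferInstance, hchar, ι, f.range,
    ⟨fun x y hx hy => ?_, fun x y hx hy h => ?_, fun t => ?_, ?_, scalars _ hn hidx, ?_⟩, ?_⟩
  · rw [hι _ ((hΩ _).1 (Ω.mul_mem hx hy)), hι _ hx, hι _ hy, ← add_div, ← map_add]
    rfl
  · rw [hι _ hx, hι _ hy, div_left_inj' hc0] at h
    exact congrArg Subtype.val (congrArg Additive.toMul (e.injective h))
  · obtain ⟨v, hv⟩ := e.surjective (t * c)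
    refine ⟨v.toMul.1, v.toMul.2, ?_⟩
    rw [hι _ v.toMul.2]
    show e v / c = t
    rw [hv, mul_div_assoc, div_self hc0, mul_one]
  · rw [hι 1 (one_mul 1), div_eq_zero_iff]
    exact Or.inl (map_zero e)
  · rintro _ ⟨g, rfl⟩
    obtain ⟨k, hk'⟩ := g.1.2
    refine ⟨k, k.2, fun x hx => ?_⟩
    rw [hι _ ((hΩ _).1 (hk _ hx)), hι _ hx, ← mul_div_assoc]
    congr 1
    have h1 := haσ g.1 (Additive.ofMul ⟨x, hx⟩)
    rw [show σ g.1 = 1 from g.2, RingAut.one_apply] at h1
    refine Eq.trans ?_ h1
    rw [show ρ g.1 = res k from hk'.symm]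
    rfl
  · rw [hι _ hi₀2]
    exact div_self hc0

end Cfsg.Agent.Lib.SuzukiSol
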