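import Cfsg.Agent.Lib.SuzukiSol.Congr
import Cfsg.Agent.Lib.Suzuki2.Semilinear
import Cfsg.Agent.Lib.Suzuki2.ClassTwo.Monomial

/-!
# Multiplier groups of small index in the multiplicative group of `GF(2 ^ n)`

A subgroup of index dividing `n` behaves, for identities between monomials of degree two, like the
whole multiplicative group.
-/

set_option autoImplicit false
set_option linter.unusedSectionVars false
set_option linter.style.haveILetI false

namespace Cfsg.Agent.Lib.SuzukiSol

open Cfsg.Agent.Lib.Suzuki2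

variable {F : Type*} [Field F]

/-- What is used about a group of multipliers. -/
structure Scalars (M : Subgroup Fˣ) : Prop where
  span : ∀ W : AddSubgroup F, (∀ m ∈ M, (m : F) ∈ W) → W = ⊤
  nofix : ∀ σ : F ≃+* F, (∀ m ∈ M, σ (m : F) = m → m = 1) → ∀ t : F, t ≠ 0 → σ t = t → t = 1
  alt : ∀ σ τ : F ≃+* F, (∀ m ∈ M, σ (m : F) * τ m = m) → σ = τ
  pairs : ∀ ψ σ τ : F ≃+* F, (∀ t : F, t ≠ 0 → σ t = t → t = 1) →
    (∀ t : F, t ≠ 0 → τ t = t → t = 1) →
    (∀ m ∈ M, ψ (m : F) * τ m = m * ψ (σ m)) → σ = τ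

variable [Fintype F] [CharP F 2] {n : ℕ}

theorem apply_frobenius_mod (hF : Fintype.card F = 2 ^ n) (σ : F ≃+* F) :
    ∃ i, i < n ∧ ∀ x, σ x = x ^ 2 ^ i := by
  have hn : 0 < n := Nat.pos_of_ne_zero fun h => by
    have := Fintype.one_lt_card (α := F)
    rw [hF, h] at this; simp at this
  obtain ⟨i, hi⟩ := ClassTwo.exists_frobenius (σ : F →+* F)
  refine ⟨i % n, Nat.mod_lt _ hn, fun x => ?_⟩
  rw [show σ x = x ^ 2 ^ i from hi x]
  by_cases hx : x = 0
  · simp [hx]
  have h1 : x ^ (2 ^ n - 1) = 1 := by rw [← hF]; exact FiniteField.pow_card_sub_one_eq_one x hx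
  have h2 := two_pow_mod n i
  calc x ^ 2 ^ i = x ^ (2 ^ i % (2 ^ n - 1)) := pow_eq_pow_mod _ h1
    _ = x ^ (2 ^ (i % n) % (2 ^ n - 1)) := by rw [h2]
    _ = x ^ 2 ^ (i % n) := (pow_eq_pow_mod _ h1).symm

/-- Every prime dividing `2 ^ n - 1` divides the order of the multiplier group. -/
theorem prime_dvd_card (M : Subgroup Fˣ) (hF : Fintype.card F = 2 ^ n) (hd : M.index ∣ n)
    {p : ℕ} (hp : p.Prime) (hpq : p ∣ 2 ^ n - 1) : p ∣ Nat.card M := by
  by_contra hnot
  have hcard : Nat.card M * M.index = 2 ^ n - 1 := by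
    rw [Subgroup.card_mul_index, Nat.card_units, Nat.card_eq_fintype_card, hF]
  have hn : n ≠ 0 := fun h => by
    have := Fintype.one_lt_card (α := F)
    rw [hF, h] at this; simp at this
  have hco : ∀ k, Nat.Coprime (p ^ k) (Nat.card M) := fun k =>
    Nat.Coprime.pow_left k ((Nat.Prime.coprime_iff_not_dvd hp).2 hnot)
  obtain ⟨v, u, hu, rfl⟩ := Nat.exists_eq_pow_mul_and_not_dvd hn p hp.ne_one
  have h1 : p ∣ 2 ^ u - 1 := by
    haveI := Fact.mk hp
    rw [← Nat.modEq_iff_dvd' Nat.one_le_two_pow, ← ZMod.natCast_eq_natCast_iff] at hpq ⊢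
    push_cast at hpq ⊢
    rw [mul_comm, pow_mul, ZMod.pow_card_pow] at hpq
    exact hpq
  have h2 : p ^ (v + 1) ∣ 2 ^ (p ^ v * u) - 1 := by
    have := dvd_sub_pow_of_dvd_sub (R := ℤ) (p := p) (a := 2 ^ u) (b := 1) (by
      have := Int.natCast_dvd_natCast.2 h1
      rwa [Nat.cast_sub Nat.one_le_two_pow] at this) v
    rw [one_pow] at this
    rw [← Int.natCast_dvd_natCast, Nat.cast_sub Nat.one_le_two_pow, mul_comm, pow_mul]
    exact_mod_cast this
  have h3 : p ^ (v + 1) ∣ M.index := (hco (v + 1)).dvd_of_dvd_mul_left (hcard ▸ h2)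
  have h4 : p ^ (v + 1) ∣ p ^ v * u := h3.trans hd
  rw [pow_succ] at h4
  exact hu ((Nat.mul_dvd_mul_iff_left (pow_pos hp.pos v)).1 h4)

theorem val_pow_eq_iff (u : Fˣ) (a b : ℕ) :
    (u : F) ^ a = (u : F) ^ b ↔ a ≡ b [MOD orderOf (u : F)] := by
  rw [orderOf_units, ← pow_eq_pow_iff_modEq, ← Units.val_pow_eq_pow_val,
    ← Units.val_pow_eq_pow_val, Units.val_inj]

theorem scalars (M : Subgroup Fˣ) (hF : Fintype.card F = 2 ^ n) (hd : M.index ∣ n) :
    Scalars M := by
  classical
  haveI : Fact (Nat.Prime 2) := ⟨Nat.prime_two⟩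
  have hn : 0 < n := Nat.pos_of_ne_zero fun h => by
    have := Fintype.one_lt_card (α := F)
    rw [hF, h] at this; simp at this
  have hcard : Nat.card M * M.index = 2 ^ n - 1 := by
    rw [Subgroup.card_mul_index, Nat.card_units, Nat.card_eq_fintype_card, hF]
  obtain ⟨g, hg⟩ := IsCyclic.exists_generator (α := M)
  have hord : orderOf ((g : Fˣ) : F) = Nat.card M := by
    rw [orderOf_units, Subgroup.orderOf_coe, orderOf_eq_card_of_forall_mem_zpowers hg]
  obtain ⟨γ, hγ⟩ := ClassTwo.exists_gen hF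
  have hall : ∀ x : F, x ≠ 0 → x ^ (2 ^ n - 1) = 1 := fun x hx => by
    rw [← hF]; exact FiniteField.pow_card_sub_one_eq_one x hx
  -- the lifting of monomial identities
  have lift : ¬ (n = 6 ∧ M.index = 3) → ∀ a b c e : ℕ,
      ((g : Fˣ) : F) ^ (2 ^ a + 2 ^ b) = ((g : Fˣ) : F) ^ (2 ^ c + 2 ^ e) →
      ∀ x : F, x ^ (2 ^ a + 2 ^ b) = x ^ (2 ^ c + 2 ^ e) := by
    intro h6 a b c e h x
    have h1 : 2 ^ a + 2 ^ b ≡ 2 ^ c + 2 ^ e [MOD Nat.card M] := by
      rw [← hord]
      exact (val_pow_eq_iff _ _ _).1 h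
    have h2 := congr_lift hn hcard hd h6 h1
    by_cases hx : x = 0
    · simp [hx, zero_pow]
    · rw [pow_eq_pow_mod _ (hall x hx), h2, ← pow_eq_pow_mod _ (hall x hx)]
  -- the exceptional case
  have six : (n = 6 ∧ M.index = 3) → Nat.card M = 21 := by
    rintro ⟨h, h'⟩; rw [h, h'] at hcard; omega
  refine ⟨fun W hW => ?_, fun σ hσ t ht htt => ?_, fun σ τ h => ?_, fun ψ σ τ hσ hτ h => ?_⟩
  · -- span
    let R : Subring F := Subring.closure ((fun m : Fˣ => (m : F)) '' (M : Set Fˣ))
    have hRW : ∀ x ∈ R, x ∈ W := by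
      intro x hx
      have hx' := (Subring.mem_closure_iff).1 hx
      refine (AddSubgroup.closure_le W).2 ?_ hx'
      intro y hy
      induction hy using Submonoid.closure_induction with
      | mem y hy => obtain ⟨m, hm, rfl⟩ := hy; exact hW m hm
      | one => exact hW 1 M.one_mem
      | mul a b ha hb _ _ =>
        have key : ∀ (s : Set F), (∀ y ∈ s, ∃ m ∈ M, (m : F) = y) →
            ∀ y ∈ Submonoid.closure s, ∃ m ∈ M, (m : F) = y := by
          intro s hs y hy
          induction hy using Submonoid.closure_induction with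
          | mem y hy => exact hs y hy
          | one => exact ⟨1, M.one_mem, rfl⟩
          | mul a b _ _ iha ihb =>
            obtain ⟨m, hm, rfl⟩ := iha
            obtain ⟨m', hm', rfl⟩ := ihb
            exact ⟨m * m', M.mul_mem hm hm', Units.val_mul _ _⟩
        obtain ⟨m, hm, e⟩ := key _ (fun y hy => hy) _ (mul_mem ha hb)
        exact e ▸ hW m hm
    suffices R = ⊤ by
      ext x; simp only [AddSubgroup.mem_top, iff_true]; exact hRW x (this ▸ trivial)
    by_contra hne
    -- a proper subfield is too small to contain `M`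
    haveI : Fintype R := Fintype.ofFinite R
    letI : Field R := Fintype.fieldOfDomain R
    haveI : CharP R 2 := inferInstance
    obtain ⟨k, -, hk⟩ := FiniteField.card R 2
    letI : Module R F := Algebra.toModule
    obtain ⟨r, hr⟩ : ∃ r, Fintype.card F = Fintype.card R ^ r :=
      ⟨_, Module.card_eq_pow_finrank (K := R) (V := F)⟩
    have hr1 : r ≠ 1 := fun h => hne (by
      rw [h, pow_one] at hr
      refine Subring.ext fun x => ⟨fun _ => trivial, fun _ => ?_⟩
      obtain ⟨y, hy⟩ := ((Fintype.bijective_iff_injective_and_card (Subtype.val : R → F)).2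
        ⟨Subtype.val_injective, hr.symm⟩).2 x
      exact hy ▸ y.2)
    have hMR : Nat.card M + 1 ≤ Fintype.card R := by
      let i : Option M → R := fun o => o.elim 0 fun m =>
        ⟨((m : Fˣ) : F), Subring.subset_closure ⟨m, m.2, rfl⟩⟩
      have hi : Function.Injective i := by
        rintro (_ | a) (_ | b) e
        · rfl
        · exact absurd (congrArg Subtype.val e).symm (Units.ne_zero _)
        · exact absurd (congrArg Subtype.val e) (Units.ne_zero _)
        · exact congrArg some (Subtype.ext (Units.ext (congrArg Subtype.val e)))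
      have := Nat.card_le_card_of_injective i hi
      rwa [Finite.card_option, Nat.card_eq_fintype_card (α := R)] at this
    rw [hk, ← pow_mul, hF] at hr
    have hnk : n = k * r := Nat.pow_right_injective le_rfl hr
    have h2k : 2 * (k : ℕ) ≤ n := by
      rcases r with _ | _ | r
      · simp at hnk; omega
      · exact absurd rfl hr1
      · rw [hnk]; nlinarith
    have hidx : M.index ≤ n := Nat.le_of_dvd hn hd
    rw [hk] at hMR
    have h5 : 2 ^ (2 * (k : ℕ)) ≤ 2 ^ n := Nat.pow_le_pow_right (by norm_num) h2k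
    have h6 : 2 ^ n - 1 ≤ (2 ^ (k : ℕ) - 1) * n :=
      hcard ▸ Nat.mul_le_mul (by omega) hidx
    have h7 : (2 ^ n : ℕ) = 2 ^ (k : ℕ) * 2 ^ (n - k) := by
      rw [← pow_add]; congr 1; omega
    have h8 : n < 2 ^ (n - k) + 1 := by
      have := Nat.lt_two_pow_self (n := n / 2)
      have := Nat.pow_le_pow_right (show 0 < 2 by norm_num) (show n / 2 ≤ n - k by omega)
      have h9 : ∀ j, 2 * j ≤ 2 ^ j := fun j => by
        induction j with
        | zero => norm_num
        | succ j ih => rw [pow_succ]; have := Nat.one_le_two_pow (n := j); omega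
      have := h9 (n - k)
      omega
    have h10 : (2 ^ (k : ℕ) - 1) * n + n ≤ 2 ^ (k : ℕ) * 2 ^ (n - k) := by
      rw [Nat.sub_mul, one_mul, Nat.sub_add_cancel (Nat.le_mul_of_pos_left _ (by positivity))]
      exact Nat.mul_le_mul_left _ (by omega)
    have : 2 ≤ n := by have := k.pos; omega
    omega
  · -- nofix
    by_contra ht1
    let u : Fˣ := Units.mk0 t ht
    obtain ⟨p, hp, hpu⟩ := Nat.exists_prime_and_dvd (n := orderOf u) (by
      rw [Ne, orderOf_eq_one_iff]; exact fun h => ht1 (congrArg Units.val h))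
    set w := u ^ (orderOf u / p) with hw
    have hwo : orderOf w = p := orderOf_pow_orderOf_div (orderOf_pos u).ne' hpu
    have hpq : p ∣ 2 ^ n - 1 := by
      have := hpu.trans (orderOf_dvd_natCard u)
      rwa [Nat.card_units, Nat.card_eq_fintype_card, hF] at this
    haveI := Fact.mk hp
    obtain ⟨m, hm⟩ := exists_prime_orderOf_dvd_card' p (prime_dvd_card M hF hd hp hpq)
    have hwM : w ∈ M := by
      have hprim : IsPrimitiveRoot (m : Fˣ) p := by
        have := IsPrimitiveRoot.orderOf (m : Fˣ)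
        rwa [Subgroup.orderOf_coe, hm] at this
      obtain ⟨i, -, hi⟩ := (IsPrimitiveRoot.coe_units_iff.2 hprim).eq_pow_of_pow_eq_one
        (ξ := (w : F)) (by rw [← Units.val_pow_eq_pow_val, ← hwo, pow_orderOf_eq_one, Units.val_one])
      rw [show w = (m : Fˣ) ^ i from Units.ext (by rw [← hi, Units.val_pow_eq_pow_val])]
      exact M.pow_mem m.2 i
    have := hσ w hwM (by simp [hw, u, map_pow, htt])
    rw [this, orderOf_one] at hwo
    exact hp.one_lt.ne hwo
  · -- alt
    obtain ⟨i, hi, hσi⟩ := apply_frobenius_mod hF σ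
    obtain ⟨j, hj, hτj⟩ := apply_frobenius_mod hF τ
    have hg' := h g g.2
    rw [hσi, hτj, ← pow_add] at hg'
    have hhalf : 2 ^ (n - 1) + 2 ^ (n - 1) = 2 ^ n := by
      rw [← two_mul, ← pow_succ', Nat.sub_add_cancel hn]
    have hone : ∀ x : F, x ^ (2 ^ (n - 1) + 2 ^ (n - 1)) = x := fun x => by
      rw [hhalf, ← hF, FiniteField.pow_card]
    by_cases h6 : n = 6 ∧ M.index = 3
    · rw [six h6] at hord
      obtain ⟨rfl, -⟩ := h6
      have hmod : (2 ^ i + 2 ^ j) % 21 = 1 := by
        have := val_pow_eq_iff (g : Fˣ) (2 ^ i + 2 ^ j) 1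
        rw [pow_one, hord] at this
        exact this.1 hg'
      have key : ∀ i j : Fin 6, (2 ^ i.val + 2 ^ j.val) % 21 = 1 → i = j := by decide
      have hij := key ⟨i, hi⟩ ⟨j, hj⟩ hmod
      rw [Fin.mk.injEq] at hij
      exact RingEquiv.ext fun x => by rw [hσi, hτj, hij]
    · let half : F ≃+* F := (RingEquiv.ofBijective (frobenius F 2)
        ⟨(frobenius F 2).injective, Finite.surjective_of_injective (frobenius F 2).injective⟩).symm
      have hhalf' : ∀ x, half x * half x = x := fun x => by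
        rw [← sq]
        exact RingEquiv.apply_symm_apply (RingEquiv.ofBijective (frobenius F 2) _) x
      have key := lift h6 i j (n - 1) (n - 1) (by rw [hone]; exact hg')
      have e : σ = half := or_self_iff.1 (Semilinear.pair_eq σ τ half half fun x => by
        rw [hσi, hτj, ← pow_add, key x, hone, hhalf'])
      refine RingEquiv.ext fun x => ?_
      by_cases hx : x = 0
      · simp [hx]
      have h1 := key x
      rw [hone, pow_add, ← hσi, ← hτj] at h1
      refine mul_left_cancel₀ (show σ x ≠ 0 by simp [hx]) ?_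
      rw [h1, e]; exact hhalf' x
  · -- pairs
    obtain ⟨b, hb, hψb⟩ := apply_frobenius_mod hF ψ
    obtain ⟨s, hs, hσs⟩ := apply_frobenius_mod hF σ
    obtain ⟨t, ht, hτt⟩ := apply_frobenius_mod hF τ
    have hg' := h g g.2
    rw [hσs, hψb, hψb, hτt, ← pow_mul, ← pow_add, ← pow_add] at hg'
    have hg'' : ((g : Fˣ) : F) ^ (2 ^ b + 2 ^ t) = ((g : Fˣ) : F) ^ (2 ^ 0 + 2 ^ (s + b)) := by
      rw [hg', pow_zero, pow_add _ 1, pow_one]
    by_cases h6 : n = 6 ∧ M.index = 3
    · rw [six h6] at hord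
      obtain ⟨rfl, -⟩ := h6
      have hmod : (2 ^ b + 2 ^ t) % 21 = (1 + 2 ^ (s + b)) % 21 := by
        have := (val_pow_eq_iff _ _ _).1 hg''
        rwa [hord, pow_zero] at this
      have hnofix : ∀ (ρ : F ≃+* F) (k : ℕ), (∀ x, ρ x = x ^ 2 ^ k) →
          (∀ x : F, x ≠ 0 → ρ x = x → x = 1) → 2 ^ k % 3 ≠ 1 ∧ 2 ^ k % 7 ≠ 1 := by
        intro ρ k hρ hfix
        have h63 : orderOf (γ : F) = 63 := by rw [orderOf_units, hγ]; norm_num
        have aux : ∀ a c : ℕ, a * c = 63 → 2 ^ k % c = 1 → (γ : F) ^ a = 1 := by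
          intro a c hac hk
          refine hfix _ (pow_ne_zero _ γ.ne_zero) ?_
          rw [hρ, ← pow_mul, val_pow_eq_iff, h63, ← hac]
          have : 2 ^ k ≡ 1 [MOD c] := by
            rw [Nat.ModEq, hk]
            rcases c with _ | _ | c
            · simp at hac
            · exact absurd hk (by simp [Nat.mod_one])
            · rw [Nat.one_mod]
          simpa using this.mul_left' a
        refine ⟨fun h3 => ?_, fun h7 => ?_⟩
        · have := orderOf_dvd_of_pow_eq_one (aux 21 3 rfl h3)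
          rw [h63] at this; norm_num at this
        · have := orderOf_dvd_of_pow_eq_one (aux 9 7 rfl h7)
          rw [h63] at this; norm_num at this
      have key : ∀ b s t : Fin 6, (2 ^ b.val + 2 ^ t.val) % 21 = (1 + 2 ^ (s.val + b.val)) % 21 →
          2 ^ s.val % 3 ≠ 1 ∧ 2 ^ s.val % 7 ≠ 1 → 2 ^ t.val % 3 ≠ 1 ∧ 2 ^ t.val % 7 ≠ 1 →
          s = t := by decide
      have hst := key ⟨b, hb⟩ ⟨s, hs⟩ ⟨t, ht⟩ hmod (hnofix σ s hσs hσ) (hnofix τ t hτt hτ)
      rw [Fin.mk.injEq] at hst
      exact RingEquiv.ext fun x => by rw [hσs, hτt, hst]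
    · have key := lift h6 b t 0 (s + b) hg''
      have hid : ∀ x, ψ x * τ x = (RingEquiv.refl F) x * (σ.trans ψ) x := fun x => by
        rw [RingEquiv.refl_apply, RingEquiv.trans_apply, hψb, hψb, hτt, hσs, ← pow_mul,
          ← pow_add, ← pow_add, key x, pow_zero, pow_add _ 1, pow_one]
      rcases Semilinear.pair_eq _ _ _ _ hid with e | e
      · refine RingEquiv.ext fun x => ?_
        have := hid x
        rw [e] at this
        by_cases hx : x = 0
        · simp [hx]
        · exact (mul_left_cancel₀ hx (by simpa using this)).symm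
      · refine RingEquiv.ext fun x => ?_
        have hσx : σ x = x := ψ.injective (DFunLike.congr_fun e x).symm
        by_cases hx : x = 0
        · simp [hx]
        · rw [hσx, hσ x hx hσx, map_one]

end Cfsg.Agent.Lib.SuzukiSol
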